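import Mathlib

/-!
# S3541: representations of products of groups (helper93)

`sum_le` : commuting groups `S i` with degree bounds `r i ≥ 3`; the sum of `r i * r j` over the pairs with a common
eigenvector whose two eigenvalues are not `1` is at most the dimension.
-/

set_option autoImplicit false

namespace Cfsg.Agent.TH.Ex.Mu.Ten

open Module

variable {K : Type} [Field K]

/-- all non-trivial representations have degree at least `r` -/
def Low (K : Type) [Field K] (S : Type) [Group S] (r : ℕ) : Prop :=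
  ∀ (W : Type) [AddCommGroup W] [Module K W] [FiniteDimensional K W] (σ : Representation K S W), (∃ g, σ g ≠ 1) →
    r ≤ finrank K W

section lin

variable {U V : Type} [AddCommGroup U] [Module K U] [AddCommGroup V] [Module K V] [FiniteDimensional K U]
  [FiniteDimensional K V] {ι : Type*}

theorem exists_min (A : ι → End K V) {P : Submodule K V} (hP : ∀ i, ∀ v ∈ P, A i v ∈ P) (h0 : P ≠ ⊥) :
    ∃ N ≤ P, N ≠ ⊥ ∧ (∀ i, ∀ v ∈ N, A i v ∈ N) ∧ ∀ N' ≤ N, (∀ i, ∀ v ∈ N', A i v ∈ N') → N' = ⊥ ∨ N' = N := by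
  obtain ⟨N, ⟨h1, h2, h3⟩, h4⟩ := IsArtinian.set_has_minimal
    {N : Submodule K V | N ≤ P ∧ N ≠ ⊥ ∧ ∀ i, ∀ v ∈ N, A i v ∈ N} ⟨P, le_rfl, h0, hP⟩
  refine ⟨N, h1, h2, h3, fun N' h5 h6 => or_iff_not_imp_left.2 fun h7 => ?_⟩
  exact h5.eq_of_not_lt (h4 N' ⟨h5.trans h1, h7, h6⟩)

variable [IsAlgClosed K]

theorem schur [Nontrivial U] {A : ι → End K U} (hA : ∀ N : Submodule K U, (∀ i, ∀ v ∈ N, A i v ∈ N) → N = ⊥ ∨ N = ⊤)
    {e : End K U} (he : ∀ i u, e (A i u) = A i (e u)) : ∃ c : K, ∀ u, e u = c • u := by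
  obtain ⟨c, hc⟩ := End.exists_eigenvalue e
  refine ⟨c, fun u => End.mem_eigenspace_iff.1 ?_⟩
  rw [(hA (e.eigenspace c) fun i v hv => ?_).resolve_left hc]
  · exact Submodule.mem_top
  · rw [End.mem_eigenspace_iff] at hv ⊢
    rw [he, hv, map_smul]

theorem hom_le {A : ι → End K U} (hA : ∀ N : Submodule K U, (∀ i, ∀ v ∈ N, A i v ∈ N) → N = ⊥ ∨ N = ⊤)
    {B : ι → End K V} (Z : Submodule K (U →ₗ[K] V)) (hZ : ∀ φ ∈ Z, ∀ i u, φ (A i u) = B i (φ u)) :
    finrank K U * finrank K Z ≤ finrank K V := by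
  let b := finBasis K Z
  let Φ : (Fin (finrank K Z) → U) →ₗ[K] V := ∑ j, (b j : U →ₗ[K] V) ∘ₗ LinearMap.proj j
  have hΦ : ∀ w, Φ w = ∑ j, (b j : U →ₗ[K] V) (w j) := fun w => by simp [Φ]
  suffices h : LinearMap.ker Φ = ⊥ by
    have h1 := LinearMap.finrank_le_finrank_of_injective (LinearMap.ker_eq_bot.1 h)
    rwa [finrank_pi_fintype, Finset.sum_const, Finset.card_univ, Fintype.card_fin, smul_eq_mul, mul_comm] at h1
  by_contra h0
  let A' : ι → End K (Fin (finrank K Z) → U) := fun i => LinearMap.pi fun j => A i ∘ₗ LinearMap.proj j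
  obtain ⟨N, h1, h2, h3, h4⟩ := exists_min A' (P := LinearMap.ker Φ) (fun i w hw => by
    rw [LinearMap.mem_ker, hΦ] at hw ⊢
    refine (Finset.sum_congr rfl fun j _ => hZ _ (b j).2 i (w j)).trans ?_
    rw [← map_sum, hw, map_zero]) h0
  obtain ⟨w, hw, hw0⟩ := (Submodule.ne_bot_iff N).1 h2
  obtain ⟨j, hj⟩ := Function.ne_iff.1 hw0
  have : Nontrivial U := ⟨w j, 0, hj⟩
  let π : N →ₗ[K] U := LinearMap.proj j ∘ₗ N.subtype
  have h5 : Function.Injective π := by
    rw [← LinearMap.ker_eq_bot, eq_bot_iff]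
    intro x hx
    rcases h4 (N ⊓ LinearMap.ker (LinearMap.proj j)) inf_le_left (fun i v hv => ⟨h3 i v hv.1, by
      show A i (v j) = 0
      rw [show v j = 0 from hv.2, map_zero]⟩) with h5 | h5
    · exact Subtype.ext (h5.le (⟨x.2, hx⟩ : x.1 ∈ N ⊓ LinearMap.ker (LinearMap.proj j)))
    · exact absurd (h5.ge hw).2 hj
  have h6 : Function.Surjective π := by
    rw [← LinearMap.range_eq_top]
    refine (hA _ ?_).resolve_left fun h6 => hj (h6.le ⟨⟨w, hw⟩, rfl⟩)
    rintro i _ ⟨x, rfl⟩
    exact ⟨⟨_, h3 i x x.2⟩, rfl⟩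
  let ψ := (LinearEquiv.ofBijective π ⟨h5, h6⟩).symm
  have h7 : ∀ u, (ψ u).1 j = u := (LinearEquiv.ofBijective π ⟨h5, h6⟩).apply_symm_apply
  have h8 : ∀ i u, ψ (A i u) = ⟨A' i (ψ u), h3 i _ (ψ u).2⟩ := fun i u => h5 ((h7 _).trans (congrArg (A i) (h7 u).symm))
  have h9 : ∀ k, ∃ c : K, ∀ u, (ψ u).1 k = c • u := fun k =>
    schur hA (e := LinearMap.proj k ∘ₗ N.subtype ∘ₗ ψ.toLinearMap) fun i u => congrArg (fun x : N => x.1 k) (h8 i u)
  choose c hc using h9
  have h10 := Fintype.linearIndependent_iff.1 b.linearIndependent c (Subtype.ext (LinearMap.ext fun u => by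
    have h10 : Φ (ψ u) = 0 := h1 (ψ u).2
    rw [hΦ] at h10
    simpa [hc] using h10)) j
  refine hj ?_
  rw [← h7 (w j), hc, h10, zero_smul]
  rfl

end lin

section prod

variable {ι : Type} {S : ι → Type} [∀ i, Group (S i)] {r : ι → ℕ}

/-- composition with the operators -/
def post {G U V : Type} [Group G] [AddCommGroup U] [Module K U] [AddCommGroup V] [Module K V]
    (τ : Representation K G V) : Representation K G (U →ₗ[K] V) where
  toFun y := LinearMap.llcomp K U V V (τ y)
  map_one' := by ext; simp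
  map_mul' _ _ := by ext; simp

variable [IsAlgClosed K]

theorem prod_le (l : List ι) (hr : ∀ i ∈ l, Low K (S i) (r i)) (V : Type) [AddCommGroup V] [Module K V]
    [FiniteDimensional K V] [Nontrivial V] (ρ : ∀ i, Representation K (S i) V)
    (hc : l.Pairwise fun i j => ∀ x y, Commute (ρ i x) (ρ j y)) (hf : ∀ i ∈ l, ∀ v, (∀ x, ρ i x v = v) → v = 0) :
    (l.map r).prod ≤ finrank K V := by
  classical
  induction l generalizing V with
  | nil => exact finrank_pos
  | cons i l ih =>
    obtain ⟨U, -, h2, h3, h4⟩ := exists_min (ρ i) (P := ⊤) (fun _ _ _ => trivial) top_ne_bot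
    let σ := (ρ i).subrepresentation U h3
    obtain ⟨u, hu, hu0⟩ := (Submodule.ne_bot_iff U).1 h2
    have h5 : r i ≤ finrank K U := hr i List.mem_cons_self U σ (by
      by_contra h5
      refine hu0 (hf i List.mem_cons_self u fun x => ?_)
      exact congrArg Subtype.val (LinearMap.congr_fun (not_not.1 (not_exists.1 h5 x)) ⟨u, hu⟩))
    let Z : Submodule K (U →ₗ[K] V) :=
      { carrier := {φ | ∀ x v, φ (σ x v) = ρ i x (φ v)}
        zero_mem' := fun _ _ => (map_zero _).symm
        add_mem' := fun {a b} ha hb x v => by rw [LinearMap.add_apply, LinearMap.add_apply, ha, hb, map_add]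
        smul_mem' := fun c a ha x v => by rw [LinearMap.smul_apply, LinearMap.smul_apply, ha, map_smul] }
    have h6 : finrank K U * finrank K Z ≤ finrank K V := hom_le (A := σ) (B := ρ i) (fun N hN => by
      rcases h4 (N.map U.subtype) (Submodule.map_subtype_le _ _) (by
        rintro x _ ⟨v, hv, rfl⟩
        exact ⟨_, hN x v hv, rfl⟩) with h6 | h6
      · exact Or.inl (Submodule.map_injective_of_injective U.injective_subtype (h6.trans (Submodule.map_bot _).symm))
      · exact Or.inr (Submodule.map_injective_of_injective U.injective_subtype (h6.trans (Submodule.map_subtype_top U).symm)))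
      Z fun _ h => h
    have : Nontrivial Z := ⟨⟨U.subtype, fun _ _ => rfl⟩, 0, fun h =>
      hu0 (LinearMap.congr_fun (congrArg Subtype.val h) ⟨u, hu⟩)⟩
    have h7 : ∀ j, (∀ x y, Commute (ρ i x) (ρ j y)) → ∀ y, Z ≤ Z.comap (post (ρ j) y) := fun j h y φ hφ x v => by
      show ρ j y (φ (σ x v)) = ρ i x (ρ j y (φ v))
      rw [hφ]
      exact (LinearMap.congr_fun (h x y).eq _).symm
    let τ : ∀ j, Representation K (S j) Z := fun j =>
      if h : ∀ x y, Commute (ρ i x) (ρ j y) then (post (ρ j)).subrepresentation Z (h7 j h) else 1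
    have h8 : ∀ j ∈ l, ∀ y φ v, (τ j y φ).1 v = ρ j y (φ.1 v) := fun j hj y φ v => by
      simp only [τ, dif_pos (List.rel_of_pairwise_cons hc hj)]
      rfl
    have h9 := ih (fun j hj => hr j (List.mem_cons_of_mem _ hj)) Z τ
      (hc.of_cons.imp_of_mem fun {j k} hj hk h x y => LinearMap.ext fun φ => Subtype.ext (LinearMap.ext fun v => by
        rw [End.mul_apply, End.mul_apply, h8 j hj, h8 k hk, h8 k hk, h8 j hj]
        exact LinearMap.congr_fun (h x y).eq _))
      fun j hj φ h => Subtype.ext (LinearMap.ext fun v => hf j (List.mem_cons_of_mem _ hj) _ fun y => by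
        rw [← h8 j hj, h])
    rw [List.map_cons, List.prod_cons]
    exact (Nat.mul_le_mul h5 h9).trans h6

/-- the sum over the pairs with the property `m` -/
def ps (r : ι → ℕ) (m : ι → ι → Prop) [DecidableRel m] : List ι → ℕ
  | [] => 0
  | i :: l => r i * ((l.filter (m i ·)).map r).sum + ps r m l

omit [IsAlgClosed K] in
theorem ps_realised : True := by have := @ps.eq_def; trivial

theorem sum_filter_le {a b c : ι → Prop} [DecidablePred a] [DecidablePred b] [DecidablePred c] (l : List ι)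
    (h : ∀ j ∈ l, a j → b j ∨ c j) :
    ((l.filter (a ·)).map r).sum ≤ ((l.filter (b ·)).map r).sum + ((l.filter (c ·)).map r).sum := by
  induction l with
  | nil => exact Nat.zero_le _
  | cons j l ih =>
    have h1 := ih fun k hk => h k (List.mem_cons_of_mem _ hk)
    have h2 := h j List.mem_cons_self
    by_cases ha : a j <;> by_cases hb : b j <;> by_cases hc : c j <;> simp [ha, hb, hc] at h2 ⊢ <;> omega

theorem ps_le {a b c : ι → ι → Prop} [DecidableRel a] [DecidableRel b] [DecidableRel c] (l : List ι)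
    (h : ∀ i ∈ l, ∀ j ∈ l, a i j → b i j ∨ c i j) : ps r a l ≤ ps r b l + ps r c l := by
  induction l with
  | nil => exact Nat.zero_le _
  | cons i l ih =>
    have h1 := ih fun j hj k hk => h j (List.mem_cons_of_mem _ hj) k (List.mem_cons_of_mem _ hk)
    have h2 := Nat.mul_le_mul_left (r i) (sum_filter_le (r := r) l fun j hj =>
      h i List.mem_cons_self j (List.mem_cons_of_mem _ hj))
    rw [mul_add] at h2
    simp only [ps]
    omega

theorem ps_false (l : List ι) : ps r (fun _ _ => False) l = 0 := by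
  induction l with
  | nil => rfl
  | cons i l ih => simp [ps, ih]

/-- the pairs of members with the property `a` -/
theorem ps_and (a : ι → Prop) [DecidablePred a] (l : List ι) (hr : ∀ i ∈ l, 3 ≤ r i) :
    ps r (fun i j => a i ∧ a j) l ≤ ((l.filter (a ·)).map r).prod ∧
      ((l.filter (a ·)).map r).sum ≤ ((l.filter (a ·)).map r).prod ∧
      (ps r (fun i j => a i ∧ a j) l = 0 ∨ 3 * ((l.filter (a ·)).map r).sum ≤ 2 * ((l.filter (a ·)).map r).prod) ∧
      (((l.filter (a ·)).map r).sum = 0 ∧ ((l.filter (a ·)).map r).prod = 1 ∧ ps r (fun i j => a i ∧ a j) l = 0 ∨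
        3 ≤ ((l.filter (a ·)).map r).prod) := by
  induction l with
  | nil => simp [ps]
  | cons i l ih =>
    obtain ⟨h1, h2, h3, h4⟩ := ih fun j hj => hr j (List.mem_cons_of_mem _ hj)
    have h5 := hr i List.mem_cons_self
    by_cases ha : a i
    · simp only [ps, ha, true_and, decide_true, List.filter_cons_of_pos, List.map_cons, List.sum_cons, List.prod_cons]
      generalize ((l.filter (a ·)).map r).sum = s at *
      generalize ((l.filter (a ·)).map r).prod = p at *
      generalize ps r (fun i j => a i ∧ a j) l = t at *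
      obtain ⟨x, hx⟩ := Nat.exists_eq_add_of_le h5
      rw [hx]
      rcases h4 with ⟨rfl, rfl, rfl⟩ | h4
      · omega
      obtain ⟨y, rfl⟩ := Nat.exists_eq_add_of_le h4
      have h6 := Nat.mul_le_mul_left x h2
      refine ⟨?_, by nlinarith, Or.inr (by nlinarith), Or.inr (by nlinarith)⟩
      rcases h3 with rfl | h3
      · nlinarith
      · have h7 := Nat.mul_le_mul_left x h3
        nlinarith
    · simpa [ps, ha] using ⟨h1, h2, h3, h4⟩

/-- a common eigenvector with two eigenvalues different from `1` -/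
def Mix {V : Type} [AddCommGroup V] [Module K V] (ρ : ∀ i, Representation K (S i) V) (i j : ι) : Prop :=
  ∃ (y : S i) (z : S j) (v : V) (a b : K), v ≠ 0 ∧ a ≠ 1 ∧ b ≠ 1 ∧ ρ i y v = a • v ∧ ρ j z v = b • v

open scoped Classical in
theorem sum_le (l : List ι) (h3 : ∀ i ∈ l, 3 ≤ r i) (hr : ∀ i ∈ l, Low K (S i) (r i)) (n : ℕ) (V : Type) [AddCommGroup V]
    [Module K V] [FiniteDimensional K V] (hn : finrank K V = n) (ρ : ∀ i, Representation K (S i) V) (hl : l.Nodup)
    (hc : ∀ i j, i ≠ j → ∀ x y, Commute (ρ i x) (ρ j y)) : ps r (Mix ρ) l ≤ n := by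
  induction n using Nat.strong_induction_on generalizing V with
  | _ n ih =>
  by_cases h : ∃ U : Submodule K V, (∀ i x, U ≤ U.comap (ρ i x)) ∧ U ≠ ⊥ ∧ U ≠ ⊤
  · obtain ⟨U, h1, h2, h4⟩ := h
    have h5 := U.finrank_quotient_add_finrank
    have h6 := Submodule.finrank_lt h4
    have h7 : finrank K U ≠ 0 := fun h => h2 (Submodule.finrank_eq_zero.1 h)
    have h8 := ih _ (hn ▸ h6) U rfl (fun i => (ρ i).subrepresentation U (h1 i)) fun i j h x y =>
      LinearMap.ext fun v => Subtype.ext (LinearMap.congr_fun (hc i j h x y).eq v)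
    have h9 := ih _ (by omega) (V ⧸ U) rfl (fun i => (ρ i).quotient U (h1 i)) fun i j h x y =>
      LinearMap.ext fun v => by
        obtain ⟨v, rfl⟩ := U.mkQ_surjective v
        exact congrArg U.mkQ (LinearMap.congr_fun (hc i j h x y).eq v)
    refine (ps_le l ?_).trans ((Nat.add_le_add h8 h9).trans (by omega))
    rintro i - j - ⟨y, z, v, a, b, e1, e2, e3, e4, e5⟩
    by_cases e6 : v ∈ U
    · exact Or.inl ⟨y, z, ⟨v, e6⟩, a, b, fun h => e1 (congrArg Subtype.val h), e2, e3, Subtype.ext e4, Subtype.ext e5⟩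
    · exact Or.inr ⟨y, z, U.mkQ v, a, b, fun h => e6 ((Submodule.Quotient.mk_eq_zero U).1 h), e2, e3,
        congrArg U.mkQ e4, congrArg U.mkQ e5⟩
  have key : ∀ {i} {y : S i} {v : V} {a : K}, v ≠ 0 → a ≠ 1 → ρ i y v = a • v → ∃ x, ρ i x ≠ 1 :=
    fun {i y v a} e1 e2 e3 => ⟨y, fun h => by
      rw [h, End.one_apply, eq_comm, ← sub_eq_zero, ← one_smul K v, smul_smul, mul_one, ← sub_smul, smul_eq_zero] at e3
      exact e3.elim (fun h => e2 (sub_eq_zero.1 h)) e1⟩
  rcases subsingleton_or_nontrivial V with h0 | h0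
  · refine (ps_le (b := fun _ _ => False) (c := fun _ _ => False) l ?_).trans (by simp [ps_false])
    rintro i - j - ⟨_, _, v, _, _, e1, _⟩
    exact absurd (Subsingleton.elim _ _) e1
  refine (ps_le (b := fun i j => (∃ x, ρ i x ≠ 1) ∧ ∃ x, ρ j x ≠ 1) (c := fun _ _ => False) l ?_).trans ?_
  · rintro i - j - ⟨y, z, v, a, b, e1, e2, e3, e4, e5⟩
    exact Or.inl ⟨key e1 e2 e4, key e1 e3 e5⟩
  rw [ps_false, add_zero, ← hn]
  refine (ps_and _ l h3).1.trans (prod_le _ (fun i hi => hr i (List.mem_of_mem_filter hi)) V ρ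
    ((hl.filter _).imp fun h => hc _ _ h) fun i hi v hv => ?_)
  obtain ⟨x, hx⟩ := of_decide_eq_true (List.mem_filter.1 hi).2
  by_contra h1
  refine h ⟨(ρ i).invariants, fun j y w hw => ?_, (Submodule.ne_bot_iff _).2 ⟨v, hv, h1⟩, fun h2 =>
    hx (LinearMap.ext fun w => h2.ge Submodule.mem_top x)⟩
  intro z
  by_cases h2 : j = i
  · subst h2
    rw [hw y, hw z]
  · exact (LinearMap.congr_fun (hc j i h2 y z).eq w).symm.trans (congrArg (ρ j y) (hw z))

end prod

end Cfsg.Agent.TH.Ex.Mu.Ten
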