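import Cfsg.Agent.TH.Tri
import Cfsg.Agent.TH.Ex.Si.Cls

/-!
# S3541, several simple factors in `F₄, E₆, ²E₆, E₇, E₈`: the interface (helper93)

* `Ent`, `tab`, `Is p N x` : the simple groups with a small faithful representation in characteristic `p`; `BoxDeg`;
* `Geo` : eigenvalues on the adjoint module and centralizers; `BoxGeo`;
* `Nec` : the numerical conditions; `BoxGrp`.
-/

set_option autoImplicit false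

namespace Cfsg.Agent.TH.Ex.Mu

open Cfsg Cfsg.Agent.H902 Cfsg.Agent.H290.ElReg
open Subgroup (centralizer)

/-! ### the table -/

/-- order `t`, `|Out| ∣ ou`, degrees at least `R`, the characteristic does not divide `ex` and is `on` (if `on ≠ 0`),
indices at least `lm`, alternating of degree `al` (if `al ≠ 0`) -/
structure Ent where
  t : ℕ
  ou : ℕ
  R : ℕ
  ex : ℕ
  on : ℕ
  lm : ℕ
  al : ℕ

/-- the table, sorted by `R` -/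
def tab : List Ent :=
  [⟨60, 2, 3, 10, 0, 5, 5⟩ /- A5 -/, ⟨168, 2, 3, 14, 0, 7, 0⟩ /- L2(7) -/, ⟨360, 4, 4, 3, 0, 6, 6⟩ /- A6 -/,
   ⟨2520, 2, 4, 1, 0, 7, 7⟩ /- A7 -/, ⟨25920, 2, 4, 6, 0, 9, 0⟩ /- U4(2) -/, ⟨660, 2, 5, 11, 0, 11, 0⟩ /- L2(11) -/,
   ⟨7920, 2, 5, 1, 3, 11, 0⟩ /- M11* -/, ⟨1092, 2, 6, 13, 0, 14, 0⟩ /- L2(13) -/,
   ⟨6048, 2, 6, 3, 0, 28, 0⟩ /- U3(3) -/, ⟨95040, 2, 6, 1, 3, 11, 0⟩ /- M12* -/,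
   ⟨175560, 2, 6, 1, 11, 19, 0⟩ /- J1* -/, ⟨604800, 2, 6, 1, 2, 12, 0⟩ /- J2* -/,
   ⟨64561751654400, 2, 6, 1, 2, 28, 0⟩ /- Fi22* -/, ⟨51765179004000000, 2, 6, 1, 3, 67, 0⟩ /- Ly* -/,
   ⟨4089470473293004800, 2, 6, 1, 3, 27, 0⟩ /- Fi23* -/, ⟨504, 3, 7, 2, 0, 9, 0⟩ /- L2(8) -/,
   ⟨20160, 2, 7, 2, 0, 8, 8⟩ /- A8 -/, ⟨29120, 3, 7, 2, 0, 14, 0⟩ /- Sz(8) -/, ⟨181440, 2, 7, 1, 0, 9, 9⟩ /- A9 -/,
   ⟨1451520, 1, 7, 2, 0, 12, 0⟩ /- S6(2) -/, ⟨2448, 2, 8, 17, 0, 18, 0⟩ /- L2(17) -/,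
   ⟨5616, 2, 8, 3, 0, 13, 0⟩ /- L3(3) -/, ⟨7920, 2, 8, 3, 0, 11, 0⟩ /- M11 -/, ⟨95040, 2, 8, 3, 0, 11, 0⟩ /- M12 -/,
   ⟨443520, 2, 8, 1, 2, 15, 0⟩ /- M22* -/, ⟨1814400, 2, 8, 1, 0, 10, 10⟩ /- A10 -/,
   ⟨13685760, 2, 8, 2, 0, 12, 0⟩ /- U5(2) -/, ⟨44352000, 2, 8, 1, 2, 15, 0⟩ /- HS* -/,
   ⟨4089470473293004800, 2, 8, 3, 0, 27, 0⟩ /- Fi23 -/,
   ⟨4154781481226426191177580544000000, 2, 8, 1, 2, 47, 0⟩ /- B* -/,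
   ⟨808017424794512875886459904961710757005754368000000000, 2, 8, 1, 2, 4096, 0⟩ /- M* -/,
   ⟨3420, 2, 9, 19, 0, 20, 0⟩ /- L2(19) -/, ⟨19958400, 2, 9, 1, 0, 11, 11⟩ /- A11 -/,
   ⟨175560, 2, 10, 11, 0, 19, 0⟩ /- J1 -/, ⟨239500800, 2, 10, 1, 0, 12, 12⟩ /- A12 -/,
   ⟨460815505920, 2, 10, 1, 31, 31, 0⟩ /- ON* -/, ⟨6072, 2, 11, 23, 0, 24, 0⟩ /- L2(23) -/,
   ⟨10200960, 2, 11, 1, 2, 23, 0⟩ /- M23* -/, ⟨244823040, 2, 11, 1, 2, 23, 0⟩ /- M24* -/,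
   ⟨3113510400, 2, 11, 1, 0, 13, 13⟩ /- A13 -/, ⟨7800, 4, 12, 5, 0, 26, 0⟩ /- L2(25) -/,
   ⟨62400, 4, 12, 2, 0, 13, 0⟩ /- U3(4) -/, ⟨604800, 2, 12, 2, 0, 12, 0⟩ /- J2 -/,
   ⟨4680000, 2, 12, 5, 0, 20, 0⟩ /- S4(5) -/, ⟨251596800, 2, 12, 2, 0, 16, 0⟩ /- G2(4) -/,
   ⟨43589145600, 2, 12, 1, 0, 14, 14⟩ /- A14 -/, ⟨145926144000, 2, 12, 1, 29, 29, 0⟩ /- Ru* -/,
   ⟨9828, 6, 13, 3, 0, 28, 0⟩ /- L2(27) -/, ⟨4585351680, 2, 13, 3, 0, 21, 0⟩ /- S6(3) -/,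
   ⟨653837184000, 2, 13, 1, 0, 15, 15⟩ /- A15 -/, ⟨12180, 2, 14, 29, 0, 30, 0⟩ /- L2(29) -/,
   ⟨4245696, 2, 14, 3, 0, 15, 0⟩ /- G2(3) -/, ⟨145926144000, 2, 14, 29, 0, 29, 0⟩ /- Ru -/,
   ⟨10461394944000, 2, 14, 1, 0, 16, 16⟩ /- A16 -/, ⟨51765179004000000, 2, 14, 3, 0, 67, 0⟩ /- Ly -/,
   ⟨4080, 4, 15, 2, 0, 17, 0⟩ /- L2(16) -/, ⟨14880, 2, 15, 31, 0, 32, 0⟩ /- L2(31) -/,
   ⟨20160, 12, 15, 2, 0, 21, 0⟩ /- L3(4) -/, ⟨443520, 2, 15, 2, 0, 15, 0⟩ /- M22 -/,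
   ⟨979200, 4, 15, 2, 0, 17, 0⟩ /- S4(4) -/, ⟨9999360, 2, 15, 2, 0, 31, 0⟩ /- L5(2) -/,
   ⟨10200960, 2, 15, 2, 0, 23, 0⟩ /- M23 -/, ⟨44352000, 2, 15, 2, 0, 15, 0⟩ /- HS -/,
   ⟨50232960, 2, 15, 1, 3, 24, 0⟩ /- J3* -/, ⟨244823040, 2, 15, 2, 0, 23, 0⟩ /- M24 -/,
   ⟨47377612800, 1, 15, 2, 0, 18, 0⟩ /- S8(2) -/, ⟨448345497600, 2, 15, 1, 3, 36, 0⟩ /- Suz* -/,
   ⟨460815505920, 2, 15, 31, 0, 31, 0⟩ /- ON -/, ⟨177843714048000, 2, 15, 1, 0, 17, 17⟩ /- A17 -/,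
   ⟨4157776806543360000, 2, 15, 1, 3, 24, 0⟩ /- Co1* -/, ⟨86775571046077562880, 2, 15, 1, 23, 43, 0⟩ /- J4* -/,
   ⟨17971200, 2, 16, 1, 5, 24, 0⟩ /- Tits* -/, ⟨174182400, 6, 16, 2, 0, 120, 0⟩ /- O+8(2) -/,
   ⟨197406720, 2, 16, 2, 0, 17, 0⟩ /- O-8(2) -/, ⟨211341312, 3, 16, 2, 0, 16, 0⟩ /- 3D4(2) -/,
   ⟨9196830720, 6, 16, 2, 0, 16, 0⟩ /- U6(2) -/, ⟨273030912000000, 2, 16, 1, 5, 25, 0⟩ /- HN* -/,
   ⟨3201186852864000, 2, 16, 1, 0, 18, 18⟩ /- A18 -/, ⟨90745943887872000, 2, 16, 1, 7, 31, 0⟩ /- Th* -/,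
   ⟨25308, 2, 18, 37, 0, 38, 0⟩ /- L2(37) -/, ⟨3265920, 8, 18, 3, 0, 112, 0⟩ /- U4(3) -/,
   ⟨34440, 2, 20, 41, 0, 42, 0⟩ /- L2(41) -/, ⟨126000, 6, 20, 5, 0, 20, 0⟩ /- U3(5) -/,
   ⟨898128000, 2, 20, 1, 0, 20, 0⟩ /- McL -/, ⟨5859000000, 1, 20, 5, 0, 31, 0⟩ /- G2(5) -/,
   ⟨495766656000, 2, 20, 1, 0, 23, 0⟩ /- Co3 -/, ⟨42305421312000, 2, 20, 1, 0, 23, 0⟩ /- Co2 -/,
   ⟨273030912000000, 2, 20, 5, 0, 25, 0⟩ /- HN -/, ⟨4157776806543360000, 2, 20, 3, 0, 24, 0⟩ /- Co1 -/,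
   ⟨39732, 2, 21, 43, 0, 44, 0⟩ /- L2(43) -/, ⟨86775571046077562880, 2, 22, 23, 0, 43, 0⟩ /- J4 -/,
   ⟨51888, 2, 23, 47, 0, 48, 0⟩ /- L2(47) -/, ⟨58800, 4, 24, 7, 0, 50, 0⟩ /- L2(49) -/,
   ⟨372000, 2, 24, 5, 0, 31, 0⟩ /- L3(5) -/, ⟨17971200, 2, 24, 5, 0, 24, 0⟩ /- Tits -/,
   ⟨50232960, 2, 24, 3, 0, 24, 0⟩ /- J3 -/, ⟨138297600, 2, 24, 7, 0, 28, 0⟩ /- S4(7) -/,
   ⟨4030387200, 2, 24, 1, 7, 42, 0⟩ /- He* -/, ⟨90745943887872000, 2, 24, 7, 0, 31, 0⟩ /- Th -/,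
   ⟨74412, 2, 26, 53, 0, 54, 0⟩ /- L2(53) -/, ⟨6065280, 4, 26, 3, 0, 26, 0⟩ /- L4(3) -/,
   ⟨10073444472, 3, 26, 3, 0, 37, 0⟩ /- Ree(27) -/, ⟨64561751654400, 2, 28, 2, 0, 28, 0⟩ /- Fi22 -/,
   ⟨1255205709190661721292800, 2, 28, 1, 7, 42, 0⟩ /- Fi24* -/,
   ⟨4154781481226426191177580544000000, 2, 28, 2, 0, 47, 0⟩ /- B -/, ⟨102660, 2, 29, 59, 0, 60, 0⟩ /- L2(59) -/,
   ⟨113460, 2, 30, 61, 0, 62, 0⟩ /- L2(61) -/, ⟨32736, 5, 31, 2, 0, 33, 0⟩ /- L2(32) -/,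
   ⟨32537600, 5, 31, 2, 0, 62, 0⟩ /- Sz(32) -/, ⟨20158709760, 2, 31, 2, 0, 31, 0⟩ /- L6(2) -/,
   ⟨24815256521932800, 1, 31, 2, 0, 31, 0⟩ /- S10(2) -/, ⟨227787103272960, 2, 32, 2, 0, 43, 0⟩ /- U7(2) -/,
   ⟨150348, 2, 33, 67, 0, 68, 0⟩ /- L2(67) -/, ⟨178920, 2, 35, 71, 0, 72, 0⟩ /- L2(71) -/,
   ⟨194472, 2, 36, 73, 0, 74, 0⟩ /- L2(73) -/, ⟨448345497600, 2, 36, 3, 0, 36, 0⟩ /- Suz -/,
   ⟨246480, 2, 39, 79, 0, 80, 0⟩ /- L2(79) -/, ⟨265680, 8, 40, 3, 0, 82, 0⟩ /- L2(81) -/,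
   ⟨1721606400, 4, 40, 3, 0, 41, 0⟩ /- S4(9) -/, ⟨65784756654489600, 2, 40, 3, 0, 41, 0⟩ /- S8(3) -/,
   ⟨285852, 2, 41, 83, 0, 84, 0⟩ /- L2(83) -/, ⟨5663616, 2, 42, 7, 0, 43, 0⟩ /- U3(7) -/,
   ⟨4030387200, 2, 42, 7, 0, 42, 0⟩ /- He -/, ⟨664376138496, 1, 42, 7, 0, 43, 0⟩ /- G2(7) -/,
   ⟨1255205709190661721292800, 2, 42, 7, 0, 42, 0⟩ /- Fi24 -/, ⟨352440, 2, 44, 89, 0, 90, 0⟩ /- L2(89) -/,
   ⟨456288, 2, 48, 97, 0, 98, 0⟩ /- L2(97) -/, ⟨1876896, 6, 48, 7, 0, 48, 0⟩ /- L3(7) -/,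
   ⟨1018368000, 4, 48, 2, 0, 48, 0⟩ /- U4(4) -/, ⟨515100, 2, 50, 101, 0, 102, 0⟩ /- L2(101) -/,
   ⟨546312, 2, 51, 103, 0, 104, 0⟩ /- L2(103) -/, ⟨612468, 2, 53, 107, 0, 108, 0⟩ /- L2(107) -/,
   ⟨647460, 2, 54, 109, 0, 110, 0⟩ /- L2(109) -/, ⟨258190571520, 2, 54, 3, 0, 61, 0⟩ /- U5(3) -/,
   ⟨721392, 2, 56, 113, 0, 114, 0⟩ /- L2(113) -/, ⟨5515776, 18, 56, 2, 0, 56, 0⟩ /- U3(8) -/,
   ⟨4329310519296, 3, 56, 2, 0, 73, 0⟩ /- G2(8) -/, ⟨885720, 4, 60, 11, 0, 122, 0⟩ /- L2(121) -/,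
   ⟨12860654400, 2, 60, 11, 0, 61, 0⟩ /- S4(11) -/, ⟨976500, 6, 62, 5, 0, 126, 0⟩ /- L2(125) -/,
   ⟨228501000000000, 2, 62, 5, 0, 62, 0⟩ /- S6(5) -/, ⟨262080, 6, 63, 2, 0, 65, 0⟩ /- L2(64) -/,
   ⟨1024128, 2, 63, 127, 0, 128, 0⟩ /- L2(127) -/, ⟨16482816, 6, 63, 2, 0, 73, 0⟩ /- L3(8) -/,
   ⟨987033600, 4, 63, 2, 0, 63, 0⟩ /- L4(4) -/, ⟨1056706560, 6, 63, 2, 0, 63, 0⟩ /- S4(8) -/,
   ⟨4106059776000, 2, 63, 2, 0, 63, 0⟩ /- S6(4) -/, ⟨163849992929280, 2, 63, 2, 0, 127, 0⟩ /- L7(2) -/,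
   ⟨208114637736580743168000, 1, 63, 2, 0, 63, 0⟩ /- S12(2) -/, ⟨23499295948800, 2, 64, 2, 0, 64, 0⟩ /- O+10(2) -/,
   ⟨25015379558400, 2, 64, 2, 0, 64, 0⟩ /- O-10(2) -/, ⟨7434971050829414400, 2, 64, 2, 0, 64, 0⟩ /- U8(2) -/,
   ⟨1123980, 2, 65, 131, 0, 132, 0⟩ /- L2(131) -/, ⟨1285608, 2, 68, 137, 0, 138, 0⟩ /- L2(137) -/,
   ⟨1342740, 2, 69, 139, 0, 140, 0⟩ /- L2(139) -/, ⟨42573600, 4, 72, 3, 0, 73, 0⟩ /- U3(9) -/,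
   ⟨22594320403200, 4, 72, 3, 0, 73, 0⟩ /- G2(9) -/, ⟨1653900, 2, 74, 149, 0, 150, 0⟩ /- L2(149) -/,
   ⟨1721400, 2, 75, 151, 0, 152, 0⟩ /- L2(151) -/, ⟨1934868, 2, 78, 157, 0, 158, 0⟩ /- L2(157) -/,
   ⟨42456960, 4, 80, 3, 0, 80, 0⟩ /- L3(9) -/, ⟨237783237120, 2, 80, 3, 0, 80, 0⟩ /- L5(3) -/,
   ⟨2165292, 2, 81, 163, 0, 164, 0⟩ /- L2(163) -/]

/-- a bound for the number of solutions of `y ^ s = 1` -/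
def cnt (x : Ent) (s : ℕ) : ℕ := if x.al = 7 ∧ s = 3 then 351 else if x.al = 8 ∧ s = 2 then 316 else x.t

/-- the entry `x` describes `N` in characteristic `p` -/
structure Is (p : ℕ) (N : Type) [Group N] (x : Ent) : Prop where
  card : Nat.card N = x.t
  aut : Nat.card (MulAut N) ∣ x.ou * x.t
  deg : ∀ (F : Type) [Field F] [CharP F p] (n : ℕ), Fth n F N → x.R ≤ n
  ex : ¬ p ∣ x.ex
  on : x.on = 0 ∨ x.on = p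
  idx : ∀ U : Subgroup N, U ≠ ⊤ → x.lm ≤ U.index
  cnt : ∀ s, s.Prime → {y : N | y ^ s = 1}.ncard ≤ cnt x s
  al : x.al = 0 ∨ Nonempty (N ≃* alternatingGroup (Fin x.al))

/-- [DEG] for the groups with the property `P` -/
def DegRow (P : PFam) : Prop :=
  ∀ (p n : ℕ) (F : Type) [Field F] [CharP F p] (N : Type) [Group N] [Finite N] [IsSimpleGroup N], p.Prime → n ≤ 82 →
    ¬ IsMulCommutative N → Fth n F N → ¬ IsLieTypeChar p N → P p N → ∃ x ∈ tab, Is p N x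

/-- [DEG] all groups -/
def BoxDeg : Prop := AllK → DegRow fun _ N _ => ∀ c, Nonempty (N ≃* alternatingGroup (Fin c)) → c ≤ 18

/-- [DEG-A] -/
def BoxDegA : Prop := DegRow fun _ N _ => ∃ c, 5 ≤ c ∧ c ≤ 18 ∧ Nonempty (N ≃* alternatingGroup (Fin c))

/-- [DEG-S] -/
def BoxDegS : Prop := DegRow fun _ N _ => IsSporadicGroup N ∨ Lie.IsoTits N

/-- [DEG-L] -/
def BoxDegL : Prop := DegRow fun p N _ => ¬ IsAlternating N ∧ H889.Enum.InReg 82 p N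

theorem reg_mono {n n' : ℕ} (h : n ≤ n') {x : Art.Sh × ℕ × ℕ} (hx : x ∈ H290.ElTab.reg n) : x ∈ H290.ElTab.reg n' := by
  simp only [H290.ElTab.reg, List.mem_flatMap, List.mem_map, List.mem_filter, Bool.and_eq_true, Nat.ble_eq] at hx ⊢
  obtain ⟨X, h1, y, ⟨h2, h3, h4⟩, h5⟩ := hx
  exact ⟨X, h1, y, ⟨h2, h3.trans h, h4⟩, h5⟩

theorem boxDeg_of (hA : BoxDegA) (hS : BoxDegS) (hL : BoxDegL) : BoxDeg := by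
  intro hK p n F _ _ N _ _ _ hp hn hc hf hl h
  have := Fact.mk hp
  by_cases ha : IsAlternating N
  · obtain ⟨c, h1, h2⟩ := ha
    exact hA p n F N hp hn hc hf hl ⟨c, h1, h c h2, h2⟩
  rcases H889.Enum.cross_lie OrdDiv.table (hn.trans (by norm_num)) (fun h => hc ⟨⟨h⟩⟩) (hK N) hf hl with
    h1 | h1 | h1 | ⟨g, X, l, a, h1, h2, h3, h4, h5⟩
  · exact absurd h1 ha
  · exact hS p n F N hp hn hc hf hl (Or.inr h1)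
  · exact hS p n F N hp hn hc hf hl (Or.inl h1)
  · exact hL p n F N hp hn hc hf hl ⟨ha, g, X, l, a, h1, h2, h3, reg_mono hn h4, h5⟩

/-! ### the adjoint module -/

/-- the number of roots -/
def NR : Art.Sh → ℕ
  | .F4 => 48
  | .E7 => 126
  | .E8 => 240
  | _ => 72

/-- the rank -/
def rk : Art.Sh → ℕ
  | .F4 => 4
  | .E7 => 7
  | .E8 => 8
  | _ => 6

/-- the order of the fundamental group -/
def nmk : Art.Sh → ℕ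
  | .F4 => 1
  | .E7 => 2
  | .E8 => 1
  | _ => 3

/-- the number of the residues `± q ^ i` modulo `s` -/
def orb (q s : ℕ) : ℕ :=
  ((List.range s).filter fun j => (List.range s).any fun i => j == q ^ i % s || j + q ^ i % s == s).length

/-- a lower bound for the indices of the proper subgroups -/
def c0 (Y : Art.Sh) (q : ℕ) : ℕ := if Y = .F4 ∧ q % 2 = 0 then q ^ 8 * (q ^ 3 - 1) / 2 else q ^ Si.e1 Y

/-- the adjoint representation -/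
structure Geo (Y : Art.Sh) (p q : ℕ) {T K V : Type} [Group T] [Field K] [AddCommGroup V] [Module K V]
    (ρ : Representation K T V) : Prop where
  dim : Module.finrank K V = Si.dim Y
  inj : Function.Injective ρ
  mix : ∀ y z : T, y * z = z * y → (orderOf y).Prime → (orderOf z).Prime → orderOf y ≠ p → orderOf z ≠ p →
    orderOf y ≠ orderOf z → ∃ (v : V) (a b : K), v ≠ 0 ∧ a ≠ 1 ∧ b ≠ 1 ∧ ρ y v = a • v ∧ ρ z v = b • v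
  ce : ∀ y : T, (orderOf y).Prime → orderOf y ≠ p → ∀ (a : K) (R : ℕ), a ≠ 1 → 0 < R →
    R ≤ Module.finrank K (Module.End.eigenspace (ρ y) a) → orb q (orderOf y) * R ≤ NR Y ∧
      Nat.card (centralizer ({y} : Set T)) ≤ nmk Y * (q ^ (NR Y - orb q (orderOf y) * R) * (q + 1) ^ rk Y)
  f18 : Y = .F4 → ∀ y : T, (orderOf y).Prime → orderOf y ≠ p → orderOf y ≠ 2 →
    Nat.card (centralizer ({y} : Set T)) ≤ q ^ 18 * (q + 1) ^ 4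

/-- `T` has such a representation over an algebraically closed field -/
def HasGeo (Y : Art.Sh) (p q : ℕ) (T : Type) [Group T] : Prop :=
  ∃ (K V : Type) (_ : Field K) (_ : IsAlgClosed K) (_ : CharP K p) (_ : AddCommGroup V) (_ : Module K V)
    (ρ : Representation K T V), Geo Y p q ρ

/-- [GEO] -/
structure BoxGeo : Prop where
  f4 : ∀ (F : Type) [Field F] [Fintype F] (p : ℕ) [Fact p.Prime] [CharP F p],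
    HasGeo .F4 p (Fintype.card F) ↥(Lie.chevF4.group F)
  e6 : ∀ (F : Type) [Field F] [Fintype F] (p : ℕ) [Fact p.Prime] [CharP F p],
    HasGeo .E6 p (Fintype.card F) ↥(Lie.chevE6.group F)
  e7 : ∀ (F : Type) [Field F] [Fintype F] (p : ℕ) [Fact p.Prime] [CharP F p],
    HasGeo .E7 p (Fintype.card F) ↥(Lie.chevE7.group F)
  e8 : ∀ (F : Type) [Field F] [Fintype F] (p : ℕ) [Fact p.Prime] [CharP F p],
    HasGeo .E8 p (Fintype.card F) ↥(Lie.chevE8.group F)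
  te6 : ∀ (F : Type) [Field F] [Fintype F] (p : ℕ) [Fact p.Prime] [CharP F p] (q : ℕ), IsPrimePow q →
    Fintype.card F = q ^ 2 → HasGeo .TE6 p q ↥(Lie.twistedE6 F q)

/-! ### the numerical conditions -/

/-- the order of the product -/
def EE (L : List Ent) : ℕ := (L.map Ent.t).prod

/-- the number of the permutations which keep the numbers -/
def sy : List ℕ → ℕ
  | [] => 1
  | a :: l => (l.count a + 1) * sy l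

theorem sy_realised : True := by have := @sy.eq_def; trivial

/-- a multiple of `|H ⊓ T| / EE L` -/
def ou (L : List Ent) : ℕ := (L.map Ent.ou).prod * sy (L.map Ent.t)

/-- a bound for the number of elements of order `s` of `H ⊓ T` -/
def aa (L : List Ent) (k s : ℕ) : ℕ :=
  if s ∣ k then EE L * k else (L.map fun y => if s ∣ y.t then cnt y s else 1).prod

/-- members at two different places -/
def Two {α : Type*} (L : List α) (x y : α) : Prop := ∃ i j : ℕ, i ≠ j ∧ L[i]? = some x ∧ L[j]? = some y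

/-- the necessary conditions: `O = |T|`, `EE L * k = |H ⊓ T|`, `d` the subdegree, `o = |G : T|` -/
structure Nec (L : List Ent) (O k d p o c b : ℕ) (cb : ℕ → ℕ → ℕ) : Prop where
  dvd : EE L * k ∣ O
  k_dvd : k ∣ ou L
  d_dvd : d ∣ O / (EE L * k) - 1
  nd : ¬ p ∣ d
  lm : ∀ x ∈ L, x.lm ≤ Nat.gcd x.t d
  cen : ∀ x y, Two L x y → ∀ s, s.Prime → s ∣ x.t → s ≠ p → EE L * s ≤ x.t * cb s y.R
  el : ∀ x y, Two L x y → ∀ s, s.Prime → s ∣ x.t → s ≠ p → ¬ s ∣ d → O ≤ Nat.gcd x.t d * aa L k s * cb s y.R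
  u1 : ∀ x y, Two L x y → ∀ s, s.Prime → s ∣ x.t / Nat.gcd x.t d → s ≠ p → O ≤ x.t * aa L k s * cb s y.R
  un : ∀ x ∈ L, p ∣ x.t → c ≤ Nat.gcd x.t d * aa L k p
  sig : c ≤ (EE L * k * o) ^ 2
  lin : o ∣ 6 → ¬ p ∣ EE L * k → 4 * (EE L * k) ^ 2 * b ≤ O → O ≤ 3 * (EE L * k) * (EE L * k * o) ^ 4

/-- [GRP] `c` bounds the indices in `T` from below, `b` and `cb` bound the centralizers from above -/
def BoxGrp : Prop :=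
  ∀ (G : Type) [Group G] [Finite G] (T H : Subgroup G) (m p c b : ℕ) (cb : ℕ → ℕ → ℕ) (l : List (Subgroup G))
    (e : Subgroup G → Ent), LieCtx T H m p → Mul T H {S | S ∈ l} → l.Nodup → (∀ S ∈ l, Is p S (e S)) →
    (∀ M : Subgroup T, M ≠ ⊤ → c ≤ M.index) →
    (∀ y : T, (orderOf y).Prime → orderOf y ≠ p → Nat.card (centralizer ({y} : Set T)) ≤ b) →
    (∀ S ∈ l, ∀ S' ∈ l, S ≠ S' → ∀ y : T, (y : G) ∈ S → (orderOf y).Prime → orderOf y ≠ p →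
      Nat.card (centralizer ({y} : Set T)) ≤ cb (orderOf y) (e S').R) →
    ∃ k, Nec (l.map e) (Nat.card T) k (Nat.card H / m) p T.index c b cb

/-- the family of `Box2E6` -/
def TE6 : PFam := fun p T _ => ∃ (K : Type) (_ : Field K) (_ : Fintype K) (_ : CharP K p) (q : ℕ), IsPrimePow q ∧
  Fintype.card K = q ^ 2 ∧ Nonempty (T ≃* Cfsg.Lie.twistedE6 K q)

end Cfsg.Agent.TH.Ex.Mu
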