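import Cfsg.Agent.TH.Ex.Mu.Chk

/-!
# S3541, several simple factors: the search for `F₄, E₆, ²E₆, E₇` (helper93)
-/

set_option autoImplicit false
set_option Elab.async false

namespace Cfsg.Agent.TH.Ex.Mu

open Cfsg.Agent.H902

theorem of_range {Y : Art.Sh} {a n : ℕ} (h : ((List.range' a n).all (one Y)) = true) (i : ℕ) (h1 : a ≤ i)
    (h2 : i < a + n) : one Y i = true := List.all_eq_true.1 h i (List.mem_range'_1.2 ⟨h1, h2⟩)

theorem run_F4 : ((List.range' 0 163).all (one .F4)) = true := by decide +kernel
theorem run_E6 : ((List.range' 0 163).all (one .E6)) = true := by decide +kernel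
theorem run_TE6 : ((List.range' 0 163).all (one .TE6)) = true := by decide +kernel
theorem run_E7a : ((List.range' 0 3).all (one .E7)) = true := by decide +kernel
theorem run_E7b : ((List.range' 3 160).all (one .E7)) = true := by decide +kernel

theorem one_F4 (i : ℕ) (h : i < 163) : one .F4 i = true := of_range run_F4 i (by omega) (by omega)
theorem one_E6 (i : ℕ) (h : i < 163) : one .E6 i = true := of_range run_E6 i (by omega) (by omega)
theorem one_TE6 (i : ℕ) (h : i < 163) : one .TE6 i = true := of_range run_TE6 i (by omega) (by omega)

theorem one_E7 (i : ℕ) (h : i < 163) : one .E7 i = true := by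
  by_cases h1 : i < 3
  · exact of_range run_E7a i (by omega) (by omega)
  · exact of_range run_E7b i (by omega) (by omega)

end Cfsg.Agent.TH.Ex.Mu
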