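import Cfsg.Agent.TH.Ex.Mu.Chk

/-!
# S3541, several simple factors: the search for `E₈` (helper93)
-/

set_option autoImplicit false
set_option Elab.async false

namespace Cfsg.Agent.TH.Ex.Mu

open Cfsg.Agent.H902

theorem run_E8a : ((List.range' 0 1).all (one .E8)) = true := by decide +kernel
theorem run_E8b : ((List.range' 1 1).all (one .E8)) = true := by decide +kernel
theorem run_E8c : ((List.range' 2 1).all (one .E8)) = true := by decide +kernel
theorem run_E8d : ((List.range' 3 1).all (one .E8)) = true := by decide +kernel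
theorem run_E8e : ((List.range' 4 2).all (one .E8)) = true := by decide +kernel
theorem run_E8f : ((List.range' 6 6).all (one .E8)) = true := by decide +kernel
theorem run_E8g : ((List.range' 12 8).all (one .E8)) = true := by decide +kernel
theorem run_E8h : ((List.range' 20 143).all (one .E8)) = true := by decide +kernel

theorem one_E8 (i : ℕ) (h : i < 163) : one .E8 i = true := by
  have key : ∀ {a n : ℕ}, ((List.range' a n).all (one .E8)) = true → a ≤ i → i < a + n → one .E8 i = true :=
    fun h h1 h2 => List.all_eq_true.1 h i (List.mem_range'_1.2 ⟨h1, h2⟩)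
  rcases (by omega : i < 1 ∨ (1 ≤ i ∧ i < 2) ∨ (2 ≤ i ∧ i < 3) ∨ (3 ≤ i ∧ i < 4) ∨ (4 ≤ i ∧ i < 6) ∨ (6 ≤ i ∧ i < 12) ∨
    (12 ≤ i ∧ i < 20) ∨ 20 ≤ i) with h1 | h1 | h1 | h1 | h1 | h1 | h1 | h1
  exacts [key run_E8a (Nat.zero_le _) h1, key run_E8b h1.1 h1.2, key run_E8c h1.1 h1.2, key run_E8d h1.1 h1.2,
    key run_E8e h1.1 h1.2, key run_E8f h1.1 h1.2, key run_E8g h1.1 h1.2, key run_E8h h1 h]

end Cfsg.Agent.TH.Ex.Mu
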