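import Cfsg.Agent.TH.Ex.Mu.Asm
import Cfsg.Agent.TH.Ex.Mu.RunA
import Cfsg.Agent.TH.Ex.Mu.RunB
import Cfsg.Agent.TH.Ex.Ab.Dat
import Cfsg.Agent.TH.Ex.Mx.Box
import Cfsg.Agent.TH.Ex.Mg.Box
import Cfsg.Agent.TH.Ex.Dg.BoxL

/-!
# S3541: `NoMul` for `F₄, E₆, ²E₆, E₇, E₈` (helper93)
-/

set_option autoImplicit false

namespace Cfsg.Agent.TH.Ex.Mu

open Cfsg Cfsg.Lie Cfsg.Agent.H902 Cfsg.Agent.TH.Ex.Si Cfsg.Agent.TH.Ab Cfsg.Agent.DS.Ex

theorem ouN_dvd {Y : Art.Sh} (hY : Y ∈ Zs) (p f : ℕ) : H252.EN.ouN Y p f ∣ 6 * f := by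
  simp only [Zs, List.mem_cons, List.not_mem_nil, or_false] at hY
  rcases hY with rfl | rfl | rfl | rfl | rfl <;> rw [H252.EN.ouN]
  · exact Nat.mul_dvd_mul_right (by split_ifs <;> decide) f
  · exact Nat.mul_dvd_mul_right (Nat.mul_dvd_mul_left 2 (Nat.gcd_dvd_left 3 _)) f
  · exact Nat.mul_dvd_mul_right (Nat.mul_dvd_mul_left 2 (Nat.gcd_dvd_left 3 _)) f
  · exact Nat.mul_dvd_mul_right ((Nat.gcd_dvd_left 2 _).trans (by decide)) f
  · exact Dvd.intro_left 6 rfl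

theorem noMul_of {D : ChevalleyDatum} (hD : Typ D) {tw : Bool} {G : Type} [Group G] [Finite G] {T H : Subgroup G}
    {𝓢 : Set (Subgroup G)} {m p f : ℕ} (c : NCtx T H m p) (h : Mul T H 𝓢) (hI : IsoX D tw p f T) : False := by
  have := Fact.mk c.prime
  have hs := c.as.simple
  have md := hI.md hD c.prime hs c.as.nonab
  have ho := (md.index_dvd c.as).trans (ouN_dvd md.dat.mem p f)
  have key : ∀ {Y}, Y ≠ Art.Sh.F4 → Si.Dat Y p f T → ∀ M : Subgroup T, M ≠ ⊤ → c0 Y (p ^ f) ≤ M.index :=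
    fun hY d M hM => by
      rw [c0, if_neg fun h => hY h.1]
      exact d.idx M hM
  have d := md.dat
  obtain ⟨hf, F, _, _, _, ⟨rfl, hF, ⟨e⟩⟩ | ⟨rfl, rfl, hF, ⟨e⟩⟩⟩ := hI
  · rcases hD with rfl | rfl | rfl | rfl
    · rw [sh_F4] at d
      refine core Dg.boxDeg Mg.boxGrp one_F4 c h d ho (fun M hM => ?_) (hF ▸ (Mx.boxGeo.f4 F p).congr e)
      rw [c0]
      split_ifs with h1
      · obtain rfl : p = 2 := ((Nat.prime_dvd_prime_iff_eq Nat.prime_two c.prime).1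
          (Nat.prime_two.dvd_of_dvd_pow (Nat.dvd_of_mod_eq_zero h1.2))).symm
        have h2 := H934.HeisF4Even.main e.symm.isSimpleGroup (M.map e.toMonoidHom) fun h2 => hM (by
          rw [← Subgroup.comap_map_eq_self_of_injective (f := e.toMonoidHom) e.injective M, h2, Subgroup.comap_top])
        rw [Subgroup.index_map_of_bijective (f := e.toMonoidHom) e.bijective M, hF] at h2
        omega
      · exact d.idx M hM
    · rw [sh_E6] at d
      exact core Dg.boxDeg Mg.boxGrp one_E6 c h d ho (key (by decide) d) (hF ▸ (Mx.boxGeo.e6 F p).congr e)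
    · rw [sh_E7] at d
      exact core Dg.boxDeg Mg.boxGrp one_E7 c h d ho (key (by decide) d) (hF ▸ (Mx.boxGeo.e7 F p).congr e)
    · rw [sh_E8] at d
      exact core Dg.boxDeg Mg.boxGrp one_E8 c h d ho (key (by decide) d) (hF ▸ (Mx.boxGeo.e8 F p).congr e)
  · rw [sh_tw] at d
    exact core Dg.boxDeg Mg.boxGrp one_TE6 c h d ho (key (by decide) d)
      ((Mx.boxGeo.te6 F p _ (c.prime.isPrimePow.pow hf.ne') hF).congr e)

theorem noMul_chev {D : ChevalleyDatum} (hD : Typ D) (k : ℕ) : NoMul fun p T _ => ChevChar D k p T :=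
  fun _ _ _ _ _ _ _ _ c h hP => let ⟨_, hf⟩ := isoX_of_chev c.prime hP; noMul_of hD c h hf

theorem noMul_f4 : NoMul fun p T _ => ChevChar chevF4 0 p T := noMul_chev (Or.inl rfl) 0
theorem noMul_e6 : NoMul fun p T _ => ChevChar chevE6 0 p T := noMul_chev (Or.inr (Or.inl rfl)) 0
theorem noMul_e7 : NoMul fun p T _ => ChevChar chevE7 0 p T := noMul_chev (Or.inr (Or.inr (Or.inl rfl))) 0
theorem noMul_e8 : NoMul fun p T _ => ChevChar chevE8 0 p T := noMul_chev (Or.inr (Or.inr (Or.inr rfl))) 0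

theorem noMul_te6 : NoMul TE6 := fun _ _ _ _ _ _ _ _ c h hP =>
  let ⟨_, hf⟩ := isoX_of_tw c.prime hP; noMul_of (Or.inr (Or.inl rfl)) c h hf

end Cfsg.Agent.TH.Ex.Mu
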