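import Cfsg.Agent.TH.Ex.Mu.Dfs
import Cfsg.Agent.TH.Ex.Mu.Ten
import Cfsg.Agent.TH.Ex.Mg.Grp
import Cfsg.Agent.S0144

/-!
# S3541, several simple factors in `F₄, E₆, ²E₆, E₇, E₈`: the assembly (helper93)
-/

set_option autoImplicit false

namespace Cfsg.Agent.TH.Ex.Mu

open Cfsg Cfsg.Agent.H902 Cfsg.Agent.H290.ElReg Cfsg.Agent.TH.Ex.Si Cfsg.Agent.TH.Ex.Mu.Ten Module
open Subgroup (centralizer inclusion)

theorem fth_of_rep {K W S : Type} [Field K] [AddCommGroup W] [Module K W] [FiniteDimensional K W] [Group S]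
    [IsSimpleGroup S] (σ : Representation K S W) (h : ∃ g, σ g ≠ 1) : Fth (finrank K W) K S := by
  obtain ⟨g, hg⟩ := h
  let e := LinearMap.toMatrixAlgEquiv (finBasis K W)
  refine ⟨(e.toMulEquiv.toMonoidHom.comp σ).toHomUnits, (MonoidHom.ker_eq_bot_iff _).1
    ((MonoidHom.normal_ker _).eq_bot_or_eq_top.resolve_right fun h1 => hg (e.injective ?_))⟩
  rw [map_one]
  exact congrArg Units.val (h1.ge (Subgroup.mem_top g))

theorem low_of {K S : Type} [Field K] [Group S] [IsSimpleGroup S] {r : ℕ} (h : ∀ n, Fth n K S → r ≤ n) : Low K S r :=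
  fun _ _ _ _ σ hσ => h _ (fth_of_rep σ hσ)

/-- Burnside: a third prime -/
theorem exists_elt {S : Type} [Group S] [Finite S] (hs : IsSimpleGroup S) (hc : ¬ IsMulCommutative S) {a b : ℕ}
    (ha : a.Prime) (hb : b.Prime) : ∃ z : S, (orderOf z).Prime ∧ orderOf z ≠ a ∧ orderOf z ≠ b := by
  obtain ⟨i, n, h1, h2⟩ := Nat.exists_eq_pow_mul_and_not_dvd (Nat.card_pos (α := S)).ne' a ha.ne_one
  have h0 : n ≠ 0 := fun h => h1 (h ▸ dvd_zero a)
  obtain ⟨j, k, h3, h4⟩ := Nat.exists_eq_pow_mul_and_not_dvd h0 b hb.ne_one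
  obtain ⟨r, hr, h5⟩ := Nat.exists_prime_and_dvd (n := k) fun h =>
    hc ⟨⟨IsSimpleGroup.comm_iff_isSolvable.2 (S0144.result a b i j ha hb (by rw [h2, h4, h, mul_one]))⟩⟩
  have := Fact.mk hr
  have h6 : r ∣ n := h4 ▸ h5.mul_left _
  obtain ⟨z, hz⟩ := exists_prime_orderOf_dvd_card' (G := S) r (h2 ▸ h6.mul_left _)
  exact ⟨z, hz ▸ hr, fun h => h1 (h ▸ hz ▸ h6), fun h => h3 (h ▸ hz ▸ h5)⟩

theorem ps_eq {ι : Type} {r : ι → ℕ} {m : ι → ι → Prop} [DecidableRel m] {l : List ι} (h : l.Pairwise m) :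
    ps r m l = pr (l.map r) := by
  induction l with
  | nil => rfl
  | cons i l ih =>
    rw [ps, ih h.of_cons, List.filter_eq_self.2 fun j hj => decide_eq_true (List.rel_of_pairwise_cons h hj)]
    rfl

theorem HasGeo.congr {Y : Art.Sh} {p q : ℕ} {T T' : Type} [Group T] [Group T'] (e : T ≃* T') (h : HasGeo Y p q T') :
    HasGeo Y p q T := by
  obtain ⟨K, V, i1, i2, i3, i4, i5, ρ, h⟩ := h
  have h1 : ∀ y : T, Nat.card (centralizer ({y} : Set T)) = Nat.card (centralizer ({e y} : Set T')) := fun y =>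
    Nat.card_congr (e.toEquiv.subtypeEquiv fun x => by
      rw [Subgroup.mem_centralizer_singleton_iff, Subgroup.mem_centralizer_singleton_iff, ← e.apply_eq_iff_eq, map_mul,
        map_mul]
      rfl)
  refine ⟨K, V, i1, i2, i3, i4, i5, ρ.comp e.toMonoidHom, h.dim, h.inj.comp e.injective, fun y z a1 => ?_,
    fun y => ?_, fun a y => ?_⟩
  · rw [← e.orderOf_eq y, ← e.orderOf_eq z]
    exact h.mix _ _ (by rw [← map_mul, ← map_mul, a1])
  · rw [← e.orderOf_eq y, h1]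
    exact h.ce _
  · rw [← e.orderOf_eq y, h1]
    exact h.f18 a _

theorem dim_le (Y : Art.Sh) : 0 < dim Y ∧ dim Y ≤ 248 ∧ alt Y ≤ 18 := by
  cases Y <;> exact ⟨Nat.le_of_ble_eq_true rfl, Nat.le_of_ble_eq_true rfl, Nat.le_of_ble_eq_true rfl⟩

theorem core (hD : BoxDeg) (hG : BoxGrp) {Y : Art.Sh} (hY : ∀ i < 163, one Y i = true) {G : Type} [Group G] [Finite G]
    {T H : Subgroup G} {𝓢 : Set (Subgroup G)} {m p f : ℕ} (c : NCtx T H m p) (h : Mul T H 𝓢) (d : Dat Y p f T)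
    (ho : T.index ∣ 6 * f) (hi : ∀ M : Subgroup T, M ≠ ⊤ → c0 Y (p ^ f) ≤ M.index) (g : HasGeo Y p (p ^ f) T) :
    False := by
  classical
  obtain ⟨K, V, _, _, _, _, _, ρ, g⟩ := g
  obtain ⟨d1, d2, d3⟩ := dim_le Y
  have : FiniteDimensional K V := Module.finite_of_finrank_pos (g.dim ▸ d1)
  have hT : ∀ S ∈ 𝓢, S ≤ T := fun S hS => (h.le S hS).trans inf_le_right
  let τ : ∀ S : Subgroup G, Representation K S V := fun S => if hS : S ∈ 𝓢 then ρ.comp (inclusion (hT S hS)) else 1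
  have h1 : ∀ S (hS : S ∈ 𝓢) x, τ S x = ρ ⟨x, hT S hS x.2⟩ := fun S hS x => by
    simp only [τ, dif_pos hS]
    rfl
  have hc : ∀ S (hS : S ∈ 𝓢) S' (hS' : S' ∈ 𝓢), S ≠ S' → ∀ (x : T) (y : S'), x.1 ∈ S →
      x * ⟨y, hT S' hS' y.2⟩ = ⟨y, hT S' hS' y.2⟩ * x := fun S hS S' hS' e x y hx =>
    Subtype.ext (h.comm S hS S' hS' e x hx y y.2)
  have h2 : ∀ S S', S ≠ S' → ∀ x y, Commute (τ S x) (τ S' y) := fun S S' e x y => by
    by_cases hS : S ∈ 𝓢
    · by_cases hS' : S' ∈ 𝓢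
      · rw [h1 S hS, h1 S' hS']
        exact Commute.map (hc S hS S' hS' e _ y x.2) ρ
      · simp only [τ, dif_neg hS']
        exact Commute.one_right _
    · simp only [τ, dif_neg hS]
      exact Commute.one_left _
  have h3 : ∀ S ∈ 𝓢, ∀ S' (hS' : S' ∈ 𝓢), S ≠ S' → ∀ y : T, y.1 ∈ S → (orderOf y).Prime → orderOf y ≠ p →
      ∃ (z : S') (v : V) (a b : K), v ≠ 0 ∧ a ≠ 1 ∧ b ≠ 1 ∧ ρ y v = a • v ∧ τ S' z v = b • v :=
    fun S hS S' hS' e y a1 a2 a3 => by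
      obtain ⟨z, b1, b2, b3⟩ := exists_elt (h.simple S' hS') (h.nonab S' hS') c.prime a2
      rw [← orderOf_injective (inclusion (hT S' hS')) (Subgroup.inclusion_injective _)] at b1 b2 b3
      exact ⟨z, h1 S' hS' z ▸ g.mix y _ (hc S hS S' hS' e y z a1) a2 b1 a3 b2 b3.symm⟩
  have h4 : ∀ S ∈ 𝓢, ∀ S' ∈ 𝓢, S ≠ S' → Mix τ S S' := fun S hS S' hS' e => by
    obtain ⟨y, b1, b2, -⟩ := exists_elt (h.simple S hS) (h.nonab S hS) c.prime c.prime
    rw [← orderOf_injective (inclusion (hT S hS)) (Subgroup.inclusion_injective _)] at b1 b2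
    exact ⟨y, h1 S hS y ▸ h3 S hS S' hS' e _ y.2 b1 b2⟩
  have h5 : ∀ (r : Subgroup G → ℕ) (l : List (Subgroup G)), l.Nodup → (∀ S ∈ l, S ∈ 𝓢) → (∀ S ∈ 𝓢, 3 ≤ r S) →
      (∀ S ∈ 𝓢, ∀ n, Fth n K S → r S ≤ n) → pr (l.map r) ≤ dim Y := fun r l a1 a2 a3 a4 => by
    rw [← ps_eq (m := Mix τ) (a1.imp_of_mem fun b1 b2 => h4 _ (a2 _ b1) _ (a2 _ b2))]
    exact sum_le l (fun S hS => a3 S (a2 S hS))
      (fun S hS => have := h.simple S (a2 S hS); low_of (a4 S (a2 S hS))) _ V g.dim τ a1 h2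
  have h6 : ∀ S ∈ 𝓢, ∀ n ≤ 82, Fth n K S → ∃ x ∈ tab, Is p S x := fun S hS n a1 a2 =>
    have := h.simple S hS
    hD c.allK p n K S c.prime a1 (h.nonab S hS) a2 (h.not_lie c.nown hS) fun k hk =>
      (d.alt S _ (Subgroup.inclusion_injective (hT S hS)) k hk).trans d3
  have h7 : ∀ S : Subgroup G, ∃ n, S ∈ 𝓢 → Fth n K S := fun S => ⟨finrank K V, fun hS => by
    have := h.simple S hS
    obtain ⟨y, b1, -⟩ := exists_elt this (h.nonab S hS) c.prime c.prime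
    refine fth_of_rep (τ S) ⟨y, fun e => b1.ne_one ?_⟩
    rw [h1 S hS, ← map_one ρ] at e
    rw [show y = 1 from Subtype.ext (congrArg Subtype.val (g.inj e) :), orderOf_one]⟩
  have h8 : ∀ S ∈ 𝓢, 3 ≤ Nat.find (h7 S) := fun S hS => by
    by_contra a1
    obtain ⟨x, a2, a3⟩ := h6 S hS _ (by omega) (Nat.find_spec (h7 S) hS)
    exact a1 ((tab_cnt x a2).2.2.2.trans (a3.deg K _ (Nat.find_spec (h7 S) hS)))
  have h9 : ∀ S : Subgroup G, ∃ x, S ∈ 𝓢 → x ∈ tab ∧ Is p S x := fun S => by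
    by_cases hS : S ∈ 𝓢
    · obtain ⟨S', a1, a2⟩ := h.two.exists_ne S
      have a3 : Nat.find (h7 S') * (Nat.find (h7 S) + 0) + (Nat.find (h7 S) * 0 + 0) ≤ dim Y :=
        h5 (fun S => Nat.find (h7 S)) [S', S] (by simpa using a2) (by simpa using ⟨a1, hS⟩) h8
          fun U _ n hn => Nat.find_min' _ fun _ => hn
      have a4 := Nat.mul_le_mul_right (Nat.find (h7 S) + 0) (h8 S' a1)
      obtain ⟨x, a5⟩ := h6 S hS _ (by omega) (Nat.find_spec (h7 S) hS)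
      exact ⟨x, fun _ => a5⟩
    · exact ⟨⟨0, 0, 0, 0, 0, 0, 0⟩, fun a1 => absurd a1 hS⟩
  choose e he using h9
  obtain ⟨l, a1, a2⟩ := exists_sub e tab (Set.toFinite 𝓢).toFinset.toList fun S hS => (he S (by simpa using hS)).1
  have a3 : ∀ S, S ∈ l.reverse ↔ S ∈ 𝓢 := fun S => by simp [a1.mem_iff]
  have a4 : l.reverse.Nodup := List.nodup_reverse.2 (a1.nodup_iff.2 (Finset.nodup_toList _))
  have a5 := h5 (fun S => (e S).R) _ a4 (fun S => (a3 S).1) (fun S hS => (tab_cnt _ (he S hS).1).2.2.2)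
    fun S hS => (he S hS).2.deg K
  obtain ⟨k, hk⟩ := hG G T H m p (c0 Y (p ^ f)) (bY Y (p ^ f)) (CB Y (p ^ f)) l.reverse e c.toLieCtx
    (by rwa [show {S | S ∈ l.reverse} = 𝓢 from Set.ext a3]) a4 (fun S hS => (he S ((a3 S).1 hS)).2) hi
    (fun y b1 b2 => (d.cent y b1 b2).trans (bS_le _ _ _)) fun S hS S' hS' b0 y b1 b2 b3 => by
      rw [a3] at hS hS'
      obtain ⟨z, v, a, b, e1, e2, e3, e4, e5⟩ := h3 S hS S' hS' b0 y b1 b2 b3
      have := h.simple S' hS'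
      have b4 := low_of ((he S' hS').2.deg K) _ ((τ S').subrepresentation (End.eigenspace (ρ y) a) fun x w hw => by
        rw [Submodule.mem_comap, End.mem_eigenspace_iff, h1 S' hS', ← End.mul_apply, ← map_mul,
          hc S hS S' hS' b0 y x b1, map_mul, End.mul_apply, End.mem_eigenspace_iff.1 hw, map_smul])
        ⟨z, fun e6 => by
          have e7 : τ S' z v = v := congrArg Subtype.val (LinearMap.congr_fun e6 ⟨v, End.mem_eigenspace_iff.2 e4⟩)
          rw [e5, ← sub_eq_zero, ← one_smul K v, smul_smul, mul_one, ← sub_smul, smul_eq_zero] at e7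
          exact e7.elim (fun h => e3 (sub_eq_zero.1 h)) e1⟩
      obtain ⟨b5, b6⟩ := g.ce y b2 b3 a _ e2 (zero_lt_three.trans_le (tab_cnt _ (he S' hS').1).2.2.2) b4
      rw [CB, if_neg (not_lt.2 b5)]
      refine le_min ?_ b6
      split_ifs with b7
      exacts [g.f18 b7.1 y b2 b3 b7.2, d.cent y b2 b3]
  rw [List.map_reverse] at hk
  have a6 : ∀ x ∈ l.map e, ∃ S ∈ 𝓢, e S = x := fun x hx => by
    obtain ⟨S, b1, b2⟩ := List.mem_map.1 hx
    exact ⟨S, (a3 S).1 (List.mem_reverse.2 b1), b2⟩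
  refine no_cond hY a2 (fun x hx => ?_) (by rwa [← List.map_reverse, List.map_map])
    ⟨d.mem, d.real, Nat.card_pos, ho, fun x hx => a2.mem x (List.mem_reverse.1 hx), ?_, hk⟩
  · obtain ⟨S, hS, rfl⟩ := a6 x hx
    exact ⟨(he S hS).2.al.elim (fun b1 => b1 ▸ Nat.zero_le _)
      (d.alt S _ (Subgroup.inclusion_injective (hT S hS)) _), (he S hS).2.on, (he S hS).2.ex⟩
  · rw [List.length_reverse, List.length_map, a1.length_eq, Finset.length_toList, ← Set.ncard_eq_toFinset_card 𝓢]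
    exact (Set.one_lt_ncard_iff_nontrivial).2 h.two

end Cfsg.Agent.TH.Ex.Mu
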