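import Cfsg.Agent.TH.Ex.Mu.Defs
import Cfsg.Agent.TH.Sv.Chk

/-!
# S3541, several simple factors in `F₄, E₆, ²E₆, E₇, E₈`: the kernel test (helper93)

`dfs` runs through all multisets of entries with `pr ≤ dim Y`; `leaf` tests one multiset for all `q`.
-/

set_option autoImplicit false

namespace Cfsg.Agent.TH.Ex.Mu

open Cfsg.Agent.H902 Cfsg.Agent.H290.ElTab Cfsg.Agent.TH.Sv Cfsg.Agent.TH.Ex.Si

/-- the sum of the products of two members -/
def pr : List ℕ → ℕ
  | [] => 0
  | a :: l => a * l.sum + pr l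

theorem pr_realised : True := by have := @pr.eq_def; trivial

/-- the bound for the centralizer of an element of order `s` which commutes with a factor of degree at least `R` -/
def CB (Y : Art.Sh) (q s R : ℕ) : ℕ :=
  if NR Y < orb q s * R then 0 else
    min (if Y = .F4 ∧ s ≠ 2 then q ^ 18 * (q + 1) ^ 4 else bS Y q s) (nmk Y * (q ^ (NR Y - orb q s * R) * (q + 1) ^ rk Y))

/-- `q ^ e3 ≤ q ^ e2 * bY` -/
def e3 : Art.Sh → ℕ
  | .F4 => 38
  | .E7 => 133
  | .E8 => 248
  | _ => 78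

/-- `(r, v)` : if `r ≠ p` divides `|T|`, so does `r ^ v` -/
def vm : Art.Sh → List (ℕ × ℕ)
  | .F4 => [(2, 15), (3, 6), (5, 2), (7, 2), (11, 4)]
  | .E7 => [(2, 23), (3, 11), (5, 2), (7, 3)]
  | .E8 => [(2, 30), (3, 13), (5, 5), (7, 4), (11, 2), (13, 2)]
  | _ => [(2, 17), (3, 6), (5, 2), (7, 2)]

/-- the small primes -/
def sp : List ℕ := [2, 3, 5, 7, 11, 13, 17, 19, 23, 29, 31]

/-- `∃ x ∈ l, f x` -/
def anyE {α : Type} (l : List α) (f : α → Bool) : Bool := List.rec (motive := fun _ => Bool) false (fun x _ ih => f x || ih) l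

/-- every member with the degree bound of another member -/
def tr : List Ent → List (Ent × ℕ)
  | x :: y :: l => (x, y.R) :: (y :: l).map fun z => (z, x.R)
  | _ => []

/-- the test for `|H ⊓ T| = E k`, `|T| = N` -/
def deadK (Y : Art.Sh) (L : List Ent) (E q N k : ℕ) : Bool :=
  frc (N / (E * k) - 1) fun n => anyE L (fun x => Nat.blt (Nat.gcd x.t n) x.lm) ||
    anyE (tr L) fun z => frc (Nat.gcd z.1.t n) fun g => anyE sp fun s => z.1.t % s == 0 && frc (aa L k s) fun A =>
      cond (q % s == 0) (Nat.blt (g * A) (c0 Y q)) (frc (CB Y q s z.2) fun c => Nat.blt (z.1.t * c) (E * s) ||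
        ((n % s != 0 && Nat.blt (g * A * c) N) || (z.1.t / g % s == 0 && Nat.blt (z.1.t * A * c) N)))

/-- the test for one `q` -/
def deadQ (Y : Art.Sh) (L : List Ent) (E u ex q : ℕ) : Bool :=
  Nat.gcd q ex != 1 || frc (q ^ Art.NN Y * Art.num Y q / Art.dd Y q) fun N =>
    N % E != 0 || frc (Nat.gcd u (N / E)) fun w => allDiv [2, 3, 5, 7] w (deadK Y L E q N) 1

/-- `q` is not a prime power -/
def npp (q : ℕ) : Bool := Nat.blt q (2 ^ 40) && anyE sp fun s => q % s == 0 && s ^ 40 % q != 0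

/-- the powers of `s` -/
def loopP (Y : Art.Sh) (F : ℕ → Bool) (s C : ℕ) : Bool :=
  frc C fun C => allU (fun f => Nat.blt C ((s ^ f) ^ e1 Y)) (fun f => frc (s ^ f) F) 1000 1

/-- a prime `s ∣ t` does not divide the subdegree -/
def modeA (Y : Art.Sh) (F : ℕ → Bool) (B Q g t : ℕ) : Bool :=
  anyE sp fun s => t % s == 0 && (Q % s == 0 && frc (kk Y * (g * B)) fun C =>
    allU (fun q => Nat.blt C (q ^ e2 Y)) (fun q => npp q || F q) 100000 2 && loopP Y F s (g * B))

/-- no such prime -/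
def modeB (Y : Art.Sh) (F : ℕ → Bool) (B : ℕ) : Bool :=
  smooth B && (allL prs (fun s => B % s != 0 || F s) && (frc (kk Y * (4 * B ^ 2)) fun C =>
    frc (kk Y * (3 * B * (B * 6) ^ 4)) fun C' =>
      allU (fun q => Nat.ble C (q ^ e2 Y) && Nat.blt C' (q ^ e3 Y)) (fun q => npp q || F q) 100000 2 &&
        allU (fun j => Nat.blt ((B * (6 * (j + 1))) ^ 2) (2 ^ ((j + 1) * e1 Y)))
          (fun j => frc ((B * (6 * (j + 1))) ^ 2) fun D => allU (fun r => Nat.blt D ((r ^ (j + 1)) ^ e1 Y))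
            (fun r => frc (r ^ (j + 1)) fun q => npp q || F q) 100000 2) 1000 1))

/-- a product of primes which do not divide the subdegree -/
def QQ (l : List (ℕ × ℕ)) (B a : ℕ) : ℕ :=
  List.rec (motive := fun _ => ℕ) a (fun x _ ih => cond (Nat.beq (B % x.1 ^ x.2) 0) ih (x.1 * ih)) l

/-- the member with the least reduced order -/
def best (Q : ℕ) (F : ℕ → ℕ → Bool) (L : List Ent) : ℕ → ℕ → Bool :=
  List.rec (motive := fun _ => ℕ → ℕ → Bool) F (fun x _ ih g t => frc (Nat.gcd x.t Q) fun c =>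
    cond (Nat.beq c 1) (ih g t) (frc (x.t / c) fun g' => cond (Nat.beq t 0 || Nat.blt g' g) (ih g' x.t) (ih g t))) L

/-- the test for one multiset -/
def leaf (Y : Art.Sh) (L : List Ent) (E u on ex : ℕ) : Bool :=
  frc (E * u) fun B => frc (QQ (vm Y) B (cond (Nat.beq on 0) 1 on) ^ 64) fun Q =>
    anyE L (fun x => Nat.blt (x.t / Nat.gcd x.t Q) x.lm) || (Nat.beq (210 ^ 40 % u) 0 &&
      cond (Nat.beq on 0)
        (best Q (fun g t => cond (Nat.beq t 0) (modeB Y (deadQ Y L E u ex) B) (modeA Y (deadQ Y L E u ex) B Q g t)) L 0 0)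
        (anyE L fun x => Nat.beq (x.t % on) 0 && loopP Y (deadQ Y L E u ex) on (x.t / Nat.gcd x.t Q * B)))

/-- one more than the number of members of order `t` -/
def ct (t : ℕ) (L : List Ent) : ℕ :=
  List.rec (motive := fun _ => ℕ) 1 (fun x _ ih => cond (Nat.beq x.t t) (Nat.succ ih) ih) L

/-- the state of the search -/
abbrev St : Type := List Ent → List Ent → ℕ → ℕ → ℕ → ℕ → ℕ → ℕ → Bool

/-- the loop over the rest of the table -/
def step (D al : ℕ) (lf : List Ent → ℕ → ℕ → ℕ → ℕ → Bool) (nx : St) : St := fun tb L S P E u on ex =>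
  List.rec (motive := fun _ => Bool) true (fun x tb' ih => frc (P + S * x.R) fun P' => Nat.blt D P' ||
    ((Nat.blt al x.al || ((!Nat.beq on 0 && (!Nat.beq x.on 0 && !Nat.beq x.on on)) ||
      frc (cond (Nat.beq on 0) x.on on) fun on' => frc (ex * x.ex) fun ex' =>
        (!Nat.beq on' 0 && Nat.beq (ex' % on') 0) || frc (S + x.R) fun S' => frc (E * x.t) fun E' =>
          frc (u * (x.ou * ct x.t L)) fun u' =>
            (Nat.beq S 0 || lf (x :: L) E' u' on' ex') && nx (x :: tb') (x :: L) S' P' E' u' on' ex')) && ih)) tb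

/-- the search -/
def dfs (D al : ℕ) (lf : List Ent → ℕ → ℕ → ℕ → ℕ → Bool) (fuel : ℕ) : St :=
  Nat.rec (motive := fun _ => St) (fun _ _ _ _ _ _ _ _ => false) (fun _ ih => step D al lf ih) fuel

/-- the search for all multisets whose first member is the entry number `i` -/
def one (Y : Art.Sh) (i : ℕ) : Bool :=
  match tab.drop i with
  | [] => true
  | x :: tb => Nat.blt (alt Y) x.al || dfs (dim Y) (alt Y) (leaf Y) 9 (x :: tb) [x] x.R 0 x.t x.ou x.on x.ex

end Cfsg.Agent.TH.Ex.Mu
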