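import Cfsg.Agent.TH.Ex.Mu.Defs
import Cfsg.Agent.TH.Sim.Alt
import Cfsg.Agent.H889.Enum.Glue
import Cfsg.Agent.H189.FeitTits

/-!
# S3541, several simple factors: the alternating rows of the table (helper52)

`boxDegA : BoxDegA`.
-/

set_option autoImplicit false
set_option maxHeartbeats 400000

namespace Cfsg.Agent.TH.Ex.Mu

open Cfsg Cfsg.Agent.H290.ElReg Cfsg.Agent.H252.EN Cfsg.Agent.H912.Bd

namespace DgA

/-- the least degree -/
def rA (c : ℕ) : ℕ := if c = 5 then 3 else if c ≤ 7 then 4 else if c = 8 then 7 else c - 2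

/-- the product of the own characteristics -/
def xA (c : ℕ) : ℕ := if c = 5 then 10 else if c = 6 then 3 else if c = 8 then 2 else 1

theorem row : ∀ c ∈ List.range 19, 5 ≤ c → ∃ x ∈ tab, 2 * x.t = c.factorial ∧ autA c ∣ x.ou * x.t ∧ x.R = rA c ∧
    x.ex = xA c ∧ x.on = 0 ∧ x.lm = c ∧ x.al = c := by decide +kernel

theorem cast_ne {F : Type} [Field F] {p r : ℕ} [CharP F p] (h : ¬ p ∣ r) : (r : F) ≠ 0 :=
  fun h1 => h ((CharP.cast_eq_zero_iff F p r).1 h1)

variable {F : Type} [Field F] {n : ℕ}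

theorem deg5 (h2 : ((2 : ℕ) : F) ≠ 0) (hf : Fth n F (alternatingGroup (Fin 5))) : 3 ≤ n := by
  have := Fintype.ofFinite (GaloisField 2 2)
  have h4 : Fintype.card (GaloisField 2 2) = 2 ^ 2 :=
    Nat.card_eq_fintype_card.symm.trans (GaloisField.card 2 2 two_ne_zero)
  obtain ⟨e⟩ := S0252.result h4
  exact le_psl hf Nat.prime_two h2 h4 le_rfl e.symm

theorem deg6 (h3 : ((3 : ℕ) : F) ≠ 0) (hf : Fth n F (alternatingGroup (Fin 6))) : 4 ≤ n := by
  have := Fact.mk Nat.prime_three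
  have := Fintype.ofFinite (GaloisField 3 2)
  have h9 : Fintype.card (GaloisField 3 2) = 3 ^ 2 :=
    Nat.card_eq_fintype_card.symm.trans (GaloisField.card 3 2 two_ne_zero)
  obtain ⟨e⟩ := S0254.result h9
  exact le_psl hf Nat.prime_three h3 h9 le_rfl e.symm

theorem deg {p c : ℕ} [CharP F p] (hp : p.Prime) (h5 : 5 ≤ c) (hx : ¬ p ∣ xA c)
    (hf : Fth n F (alternatingGroup (Fin c))) : rA c ≤ n := by
  unfold rA
  split_ifs with h1 h2 h3
  · subst h1
    exact deg5 (cast_ne (p := p) fun h => hx (h.trans (by decide))) hf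
  · by_cases h6 : c = 6
    · subst h6
      exact deg6 (cast_ne hx) hf
    by_cases h7 : p ∣ 3
    · refine bd_alt_prime Nat.prime_five (cast_ne (p := p) fun h => hp.one_lt.ne' ?_) (by omega) n (hf.pr 5)
      exact Nat.eq_one_of_dvd_coprimes (by decide) h7 h
    · obtain ⟨f, h⟩ := exists_alt_hom (Fin.castLEEmb (show 6 ≤ c by omega))
      exact deg6 (cast_ne h7) (hf.sub f h)
  · subst h3
    exact bd_alt_two (by exact_mod_cast cast_ne (F := F) (r := 2) hx) le_rfl n (hf.pr 2)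
  · obtain ⟨ρ, hρ⟩ := hf
    have : Finite ρ.range := Finite.of_equiv _ (MonoidHom.ofInjective hρ).toEquiv
    have h := H189.FeitTits.section_bound_GL p (r := c) (by omega) ρ.range ⊥
      ⟨QuotientGroup.quotientBot.trans (MonoidHom.ofInjective hρ).symm⟩
    split_ifs at h <;> omega

open Finset in
theorem ncard_le (c s : ℕ) [Fact s.Prime] : {y : alternatingGroup (Fin c) | y ^ s = 1}.ncard ≤
    ∑ k ∈ range (c + 1), #{g : alternatingGroup (Fin c) | g.val.cycleType = Multiset.replicate k s} := by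
  refine le_trans ?_ Finset.card_biUnion_le
  rw [← Set.ncard_coe_finset]
  refine Set.ncard_le_ncard (fun y hy => ?_) (Set.toFinite _)
  have h1 : (y : Equiv.Perm (Fin c)) ^ s = 1 := congrArg Subtype.val hy
  have h2 := Equiv.Perm.cycleType_of_pow_prime_eq_one h1
  have h3 := Equiv.Perm.sum_cycleType_le (y : Equiv.Perm (Fin c))
  rw [h2, Multiset.sum_replicate, Fintype.card_fin, smul_eq_mul] at h3
  have h4 := Nat.le_mul_of_pos_right (Multiset.card (y : Equiv.Perm (Fin c)).cycleType) (Fact.out : s.Prime).pos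
  rw [mem_coe, mem_biUnion]
  exact ⟨_, mem_range.2 (by omega), mem_filter.2 ⟨mem_univ _, h2⟩⟩

theorem cnt7 : {y : alternatingGroup (Fin 7) | y ^ 3 = 1}.ncard ≤ 351 := by
  have := Fact.mk Nat.prime_three
  refine (ncard_le 7 3).trans (le_of_eq ?_)
  simp only [AlternatingGroup.card_of_cycleType, Fintype.card_fin]
  decide +kernel

theorem cnt8 : {y : alternatingGroup (Fin 8) | y ^ 2 = 1}.ncard ≤ 316 := by
  refine (ncard_le 8 2).trans (le_of_eq ?_)
  simp only [AlternatingGroup.card_of_cycleType, Fintype.card_fin]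
  decide +kernel

theorem ncard_congr {N M : Type} [Group N] [Group M] [Finite M] (e : N ≃* M) (s : ℕ) :
    {y : N | y ^ s = 1}.ncard ≤ {y : M | y ^ s = 1}.ncard :=
  Set.ncard_le_ncard_of_injOn e (fun y hy => by
    have h : y ^ s = 1 := hy
    show e y ^ s = 1
    rw [← map_pow, h, map_one]) e.injective.injOn

end DgA

open DgA in
/-- **[DEG-A]** -/
theorem boxDegA : BoxDegA := by
  rintro p n F _ _ N _ _ _ hp - hc - hl ⟨c, h5, h18, ⟨e⟩⟩
  obtain ⟨x, hx, h1, h2, h3, h4, h6, h7, h8⟩ := row c (List.mem_range.2 (by omega)) h5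
  have h9 : ¬ p ∣ xA c := fun h => by
    refine hl (Sim.Al.lie_of_alt e ?_)
    unfold xA at h
    split_ifs at h with a b d
    · exact Or.inl ⟨a, ((Nat.Prime.dvd_mul hp (m := 2) (n := 5)).1 h).imp
        (Nat.prime_dvd_prime_iff_eq hp Nat.prime_two).1 (Nat.prime_dvd_prime_iff_eq hp Nat.prime_five).1⟩
    · exact Or.inr (Or.inl ⟨b, (Nat.prime_dvd_prime_iff_eq hp Nat.prime_three).1 h⟩)
    · exact Or.inr (Or.inr ⟨d, (Nat.prime_dvd_prime_iff_eq hp Nat.prime_two).1 h⟩)
    · exact absurd (Nat.dvd_one.1 h) hp.one_lt.ne'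
  have h10 : Nat.card N = x.t := by
    have := H889.Enum.card_alt (n := c) (by omega)
    rw [← Nat.card_congr e.toEquiv] at this
    omega
  refine ⟨x, hx, h10, ?_, fun K _ _ m hm => h3 ▸ deg hp h5 h9 (hm.congr e), h4 ▸ h9, Or.inl h6, fun U hU => ?_,
    fun s _ => ?_, Or.inr (h8 ▸ ⟨e⟩)⟩
  · rwa [H889.Enum.aut_alt (fun h => hc ⟨⟨h⟩⟩) h5 ⟨e⟩]
  · simpa [h7] using Sim.Al.le_index_alt e (by simpa using h5) hU
  · unfold cnt
    rw [h8]
    split_ifs with a b
    · obtain ⟨rfl, rfl⟩ := a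
      exact (ncard_congr e 3).trans cnt7
    · obtain ⟨rfl, rfl⟩ := b
      exact (ncard_congr e 2).trans cnt8
    · exact h10 ▸ Set.ncard_le_card _

end Cfsg.Agent.TH.Ex.Mu
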