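import Cfsg.Agent.TH.Ex.Mu.Num

/-!
# S3541, several simple factors in `F₄, E₆, ²E₆, E₇, E₈`: the search is sound (helper93)
-/

set_option autoImplicit false

namespace Cfsg.Agent.TH.Ex.Mu

open Cfsg.Agent.H902 Cfsg.Agent.TH.Sv Cfsg.Agent.TH.Ex.Si

/-- `M` lists members of `tb` in the order of `tb`, with repetitions -/
inductive Sub {α : Type} : List α → List α → Prop
  | nil (tb : List α) : Sub tb []
  | here (x : α) (tb M : List α) : Sub (x :: tb) M → Sub (x :: tb) (x :: M)
  | skip (x : α) (tb M : List α) : Sub tb M → Sub (x :: tb) M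

theorem Sub.mem {α : Type} {tb M : List α} (h : Sub tb M) : ∀ y ∈ M, y ∈ tb := by
  induction h with
  | nil => exact fun _ h => absurd h List.not_mem_nil
  | here x tb M _ ih => exact fun y hy => (List.mem_cons.1 hy).elim (fun h => h ▸ List.mem_cons_self) (ih y)
  | skip x tb M _ ih => exact fun y hy => List.mem_cons_of_mem _ (ih y hy)

theorem exists_sub {α β : Type} (e : β → α) (tb : List α) (l : List β) (h : ∀ b ∈ l, e b ∈ tb) :
    ∃ l' : List β, l'.Perm l ∧ Sub tb (l'.map e) := by
  classical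
  induction tb generalizing l with
  | nil =>
    cases l with
    | nil => exact ⟨[], .refl _, .nil _⟩
    | cons b l => exact absurd (h b List.mem_cons_self) List.not_mem_nil
  | cons x tb ih =>
    obtain ⟨l', h1, h2⟩ := ih (l.filter fun b => !decide (e b = x)) fun b hb => by
      rw [List.mem_filter] at hb
      exact (List.mem_cons.1 (h b hb.1)).resolve_left (by simpa using hb.2)
    refine ⟨l.filter (fun b => decide (e b = x)) ++ l', (h1.append_left _).trans (List.filter_append_perm _ l), ?_⟩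
    have h3 : ∀ b ∈ l.filter fun b => decide (e b = x), e b = x := fun b hb => by simpa using (List.mem_filter.1 hb).2
    generalize l.filter (fun b => decide (e b = x)) = m at h3
    induction m with
    | nil => exact .skip _ _ _ h2
    | cons b m ih' =>
      rw [List.cons_append, List.map_cons, h3 b List.mem_cons_self]
      exact .here _ _ _ (ih' fun c hc => h3 c (List.mem_cons_of_mem _ hc))

theorem Sub.drop {α : Type} {tb M : List α} {x : α} (h : Sub tb (x :: M)) :
    ∃ i < tb.length, ∃ tb', tb.drop i = x :: tb' ∧ Sub (x :: tb') M := by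
  induction tb with
  | nil => cases h
  | cons y tb ih =>
    cases h with
    | here _ _ _ h => exact ⟨0, Nat.succ_pos _, tb, rfl, h⟩
    | skip _ _ _ h =>
      obtain ⟨i, h1, tb', h2, h3⟩ := ih h
      exact ⟨i + 1, Nat.succ_lt_succ h1, tb', h2, h3⟩

theorem pr_le_append (a b : List ℕ) : pr b ≤ pr (a ++ b) := by
  induction a with
  | nil => exact le_rfl
  | cons x a ih => exact ih.trans (Nat.le_add_left _ _)

theorem ct_eq (t : ℕ) (L : List Ent) : ct t L = (L.map Ent.t).count t + 1 := by
  induction L with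
  | nil => rfl
  | cons x L ih =>
    show cond (Nat.beq x.t t) (Nat.succ (ct t L)) (ct t L) = _
    rw [List.map_cons, List.count_cons, ih]
    by_cases h : x.t = t
    · rw [Nat.beq_eq.mpr h, if_pos (beq_iff_eq.2 h)]
      rfl
    · rw [Bool.eq_false_iff.2 fun h1 => h (Nat.eq_of_beq_eq_true h1), if_neg (mt beq_iff_eq.1 h)]
      rfl

theorem ou_cons (x : Ent) (L : List Ent) : ou L * (x.ou * ct x.t L) = ou (x :: L) := by
  rw [ct_eq, ou, ou, List.map_cons, List.map_cons, List.prod_cons, sy]
  ring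

section

variable {D al p : ℕ} {lf : List Ent → ℕ → ℕ → ℕ → ℕ → Bool} {Bad : List Ent → Prop}

/-- what a correct search gives -/
def Ok (D al p : ℕ) (Bad : List Ent → Prop) (nx : St) : Prop :=
  ∀ (tb L M : List Ent) (on ex : ℕ), tb.Pairwise (fun x y => x.R ≤ y.R) → Sub tb M → M ≠ [] → (L.map Ent.R).sum ≠ 0 →
    (∀ x ∈ M, x.al ≤ al ∧ (x.on = 0 ∨ x.on = p) ∧ ¬ p ∣ x.ex) → pr ((M.reverse ++ L).map Ent.R) ≤ D →
    (on = 0 ∨ on = p) → ¬ p ∣ ex →
    nx tb L (L.map Ent.R).sum (pr (L.map Ent.R)) (EE L) (ou L) on ex = true → Bad (M.reverse ++ L)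

theorem step_ok (hp : p.Prime)
    (hlf : ∀ L on ex, (on = 0 ∨ on = p) → ¬ p ∣ ex → lf L (EE L) (ou L) on ex = true → Bad L) {nx : St}
    (hn : Ok D al p Bad nx) : Ok D al p Bad (step D al lf nx) := by
  intro tb L M on ex h1 h2 h3 h4 h5 h6 h7 h8 h
  induction tb with
  | nil =>
    cases h2
    exact absurd rfl h3
  | cons x tb ih =>
    have h' : (frc (pr (L.map Ent.R) + (L.map Ent.R).sum * x.R) fun P' => Nat.blt D P' ||
      ((Nat.blt al x.al || ((!Nat.beq on 0 && (!Nat.beq x.on 0 && !Nat.beq x.on on)) ||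
        frc (cond (Nat.beq on 0) x.on on) fun on' => frc (ex * x.ex) fun ex' =>
          (!Nat.beq on' 0 && Nat.beq (ex' % on') 0) || frc ((L.map Ent.R).sum + x.R) fun S' =>
            frc (EE L * x.t) fun E' => frc (ou L * (x.ou * ct x.t L)) fun u' =>
              (Nat.beq (L.map Ent.R).sum 0 || lf (x :: L) E' u' on' ex') &&
                nx (x :: tb) (x :: L) S' P' E' u' on' ex')) &&
        step D al lf nx tb L (L.map Ent.R).sum (pr (L.map Ent.R)) (EE L) (ou L) on ex)) = true := h
    simp only [frc_eq, Bool.or_eq_true, Bool.and_eq_true, Nat.blt_eq, Nat.beq_eq, Bool.not_eq_true',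
      Bool.eq_false_iff, ne_eq] at h'
    rcases h' with h' | ⟨h9, h10⟩
    · obtain ⟨y, M', rfl⟩ := List.exists_cons_of_ne_nil h3
      have h9 : x.R ≤ y.R := (List.mem_cons.1 (h2.mem y List.mem_cons_self)).elim (fun h => h ▸ le_rfl)
        (List.rel_of_pairwise_cons h1)
      rw [List.reverse_cons, List.append_assoc, List.map_append] at h6
      have h10 : y.R * (L.map Ent.R).sum + pr (L.map Ent.R) ≤ D := (pr_le_append _ _).trans h6
      have h11 := Nat.mul_le_mul_left (L.map Ent.R).sum h9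
      rw [mul_comm _ y.R] at h11
      omega
    cases h2 with
    | nil => exact absurd rfl h3
    | skip _ _ _ h2 => exact ih h1.of_cons h2 h10
    | here _ _ M' h2 =>
      obtain ⟨h11, h12, h13⟩ := h5 x List.mem_cons_self
      have h14 : cond (Nat.beq on 0) x.on on = 0 ∨ cond (Nat.beq on 0) x.on on = p := by
        cases Nat.beq on 0
        exacts [h7, h12]
      have h15 : ¬ p ∣ ex * x.ex := fun h15 => ((Nat.Prime.dvd_mul hp).1 h15).elim h8 h13
      rcases h9 with h9 | ⟨h9, h16, h17⟩ | ⟨h9, h16⟩ | ⟨h9, h16⟩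
      · omega
      · omega
      · rw [h14.resolve_left h9] at h16
        exact absurd (Nat.dvd_of_mod_eq_zero h16) h15
      rw [List.reverse_cons, List.append_assoc] at h6 ⊢
      rw [ou_cons, show EE L * x.t = EE (x :: L) from mul_comm _ _] at h9 h16
      by_cases h17 : M' = []
      · rw [h17]
        exact hlf _ _ _ h14 h15 (h9.resolve_left h4)
      refine hn _ (x :: L) M' _ _ h1 h2 h17 (by rw [List.map_cons, List.sum_cons]; omega)
        (fun y hy => h5 y (List.mem_cons_of_mem _ hy)) h6 h14 h15 ?_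
      rwa [add_comm _ x.R, add_comm (pr _), mul_comm _ x.R] at h16

theorem dfs_ok (hp : p.Prime)
    (hlf : ∀ L on ex, (on = 0 ∨ on = p) → ¬ p ∣ ex → lf L (EE L) (ou L) on ex = true → Bad L) (fuel : ℕ) :
    Ok D al p Bad (dfs D al lf fuel) := by
  induction fuel with
  | zero => exact fun _ _ _ _ _ _ _ _ _ _ _ _ _ h => absurd h Bool.false_ne_true
  | succ k ih => exact step_ok hp hlf ih

end

theorem tab_sorted : tab.Pairwise fun x y => x.R ≤ y.R := by
  have h : tab.IsChain fun x y => x.R ≤ y.R := by decide +kernel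
  have : Trans (fun x y : Ent => x.R ≤ y.R) (fun x y : Ent => x.R ≤ y.R) (fun x y : Ent => x.R ≤ y.R) := ⟨le_trans⟩
  exact List.isChain_iff_pairwise.1 h

theorem tab_length : tab.length = 163 := by decide +kernel

/-- **the search is sound** -/
theorem no_cond {Y : Art.Sh} (hY : ∀ i < 163, one Y i = true) {p f O k d o : ℕ} {M : List Ent} (hM : Sub tab M)
    (h1 : ∀ x ∈ M, x.al ≤ alt Y ∧ (x.on = 0 ∨ x.on = p) ∧ ¬ p ∣ x.ex) (h2 : pr (M.reverse.map Ent.R) ≤ dim Y)
    (c : Cond Y p f O M.reverse k d o) : False := by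
  have h3 := c.two
  rw [List.length_reverse] at h3
  obtain _ | ⟨x, M⟩ := M
  · exact absurd h3 (by decide)
  obtain ⟨i, h4, tb, h5, h6⟩ := hM.drop
  obtain ⟨h7, h8, h9⟩ := h1 x List.mem_cons_self
  have h10 := hY i (tab_length ▸ h4)
  rw [one, h5] at h10
  simp only [Bool.or_eq_true, Nat.blt_eq] at h10
  have h11 := (tab_cnt x (hM.mem x List.mem_cons_self)).2.2.2
  rw [List.reverse_cons] at h2 c
  refine dfs_ok (D := dim Y) (al := alt Y) (lf := leaf Y) (Bad := fun L => ¬ Cond Y p f O L k d o) c.real.hp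
    (fun L on ex a1 a2 a3 c => c.leaf_false a1 a2 a3) 9 (x :: tb) [x] M x.on x.ex (h5 ▸ tab_sorted.drop) h6
    (fun h => by simp [h] at h3) (by simp; omega) (fun y hy => h1 y (List.mem_cons_of_mem _ hy)) h2 h8 h9 ?_ c
  simpa [pr, EE, ou, sy] using h10.resolve_left (by omega)

end Cfsg.Agent.TH.Ex.Mu
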