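import Cfsg.Agent.TH.Ex.Mu.Chk

/-!
# S3541, several simple factors in `F₄, E₆, ²E₆, E₇, E₈`: the test for one multiset is sound (helper93)
-/

set_option autoImplicit false

namespace Cfsg.Agent.TH.Ex.Mu

open Cfsg.Agent.H902 Cfsg.Agent.H290.ElTab Cfsg.Agent.H290.ElCross Cfsg.Agent.TH.Sv Cfsg.Agent.TH.Ex.Si

theorem anyE_iff {α : Type} (l : List α) (f : α → Bool) : anyE l f = true ↔ ∃ x ∈ l, f x = true := by
  induction l with
  | nil => simp [anyE]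
  | cons a l ih => rw [show anyE (a :: l) f = (f a || anyE l f) from rfl, Bool.or_eq_true, ih, List.exists_mem_cons_iff]

theorem Two.mem {α : Type*} {L : List α} {x y : α} (h : Two L x y) : x ∈ L :=
  let ⟨_, _, _, h1, _⟩ := h
  List.mem_of_getElem? h1

theorem exists_two {α : Type*} {L : List α} (h : 2 ≤ L.length) {x : α} (hx : x ∈ L) : ∃ y, Two L x y := by
  obtain ⟨i, hi⟩ := List.mem_iff_getElem?.1 hx
  by_cases h0 : i = 0
  · exact ⟨L[1], i, 1, by omega, hi, List.getElem?_eq_getElem _⟩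
  · exact ⟨L[0], i, 0, h0, hi, List.getElem?_eq_getElem _⟩

theorem tr_spec {L : List Ent} {z : Ent × ℕ} (h : z ∈ tr L) : ∃ y, Two L z.1 y ∧ y.R = z.2 := by
  rcases L with _ | ⟨x, _ | ⟨y, l⟩⟩
  · exact absurd h List.not_mem_nil
  · exact absurd h List.not_mem_nil
  rcases List.mem_cons.1 h with rfl | h
  · exact ⟨y, ⟨0, 1, by omega, rfl, rfl⟩, rfl⟩
  · obtain ⟨w, hw, rfl⟩ := List.mem_map.1 h
    obtain ⟨i, hi⟩ := List.mem_iff_getElem?.1 hw
    exact ⟨x, ⟨i + 1, 0, by omega, hi, rfl⟩, rfl⟩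

theorem sp_prime : ∀ s ∈ sp, s.Prime := by decide

theorem CB_le (Y : Art.Sh) {q : ℕ} (hq : 1 ≤ q) (s R : ℕ) : CB Y q s R ≤ bY Y q := by
  unfold CB
  split_ifs with h1 h2
  · exact Nat.zero_le _
  · rw [h2.1]
    exact (min_le_left _ _).trans (Nat.mul_le_mul_right _ (Nat.pow_le_pow_right hq (by split_ifs <;> omega)))
  · exact (min_le_left _ _).trans (bS_le _ _ _)

theorem c0_ge (Y : Art.Sh) {q : ℕ} (hq : 2 ≤ q) : q ^ e1 Y ≤ c0 Y q := by
  unfold c0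
  split_ifs with h
  · rw [h.1, Nat.le_div_iff_mul_le two_pos]
    have : 2 ^ 3 ≤ q ^ 3 := Nat.pow_le_pow_left hq 3
    exact Nat.mul_le_mul_left _ (by omega)
  · exact le_rfl

theorem e3_le {Y : Art.Sh} (hY : Y ∈ Zs) {q : ℕ} (hq : 1 ≤ q) : q ^ e3 Y ≤ q ^ e2 Y * bY Y q := by
  have key : ∀ a b c l : ℕ, b ≤ c → q ^ (a + (b + l)) ≤ q ^ a * (q ^ c * (q + 1) ^ l) := fun a b c l h => by
    rw [pow_add, pow_add]
    exact Nat.mul_le_mul_left _ (Nat.mul_le_mul (Nat.pow_le_pow_right hq h) (Nat.pow_le_pow_left (Nat.le_succ q) l))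
  simp only [Zs, List.mem_cons, List.not_mem_nil, or_false] at hY
  rcases hY with rfl | rfl | rfl | rfl | rfl
  · exact key 16 18 _ 4 (by split_ifs <;> omega)
  · exact key 32 40 40 6 le_rfl
  · exact key 32 40 40 6 le_rfl
  · exact (key 54 72 72 7 le_rfl).trans (Nat.mul_le_mul_left _ (Nat.le_mul_of_pos_left _ two_pos))
  · exact key 112 128 128 8 le_rfl

theorem npp_false {p f : ℕ} (hp : p.Prime) : npp (p ^ f) = false := by
  rw [Bool.eq_false_iff, Ne, npp, Bool.and_eq_true, anyE_iff, Nat.blt_eq]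
  rintro ⟨h1, s, hs, h2⟩
  rw [Bool.and_eq_true, beq_iff_eq, bne_iff_ne] at h2
  obtain rfl := (Nat.prime_dvd_prime_iff_eq (sp_prime s hs) hp).1
    ((sp_prime s hs).dvd_of_dvd_pow (Nat.dvd_of_mod_eq_zero h2.1))
  refine h2.2 (Nat.mod_eq_zero_of_dvd (pow_dvd_pow s ?_))
  exact ((Nat.pow_lt_pow_iff_right one_lt_two).1 ((Nat.pow_le_pow_left hp.two_le f).trans_lt h1)).le

theorem loopP_sound {Y : Art.Sh} {F : ℕ → Bool} {p f C : ℕ} (hp : 0 < p) (hf : 1 ≤ f) (hC : (p ^ f) ^ e1 Y ≤ C)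
    (h : loopP Y F p C = true) : F (p ^ f) = true := by
  rw [loopP, frc_eq] at h
  have h1 := allU_sound h hf fun j hj => by
    rw [Bool.eq_false_iff, Ne, Nat.blt_eq, not_lt]
    exact (Nat.pow_le_pow_left (Nat.pow_le_pow_right hp hj) _).trans hC
  rwa [frc_eq] at h1

theorem QQ_spec {l : List (ℕ × ℕ)} {B a s : ℕ} (hs : s.Prime) (h : s ∣ QQ l B a) :
    s ∣ a ∨ ∃ x ∈ l, s ∣ x.1 ∧ ¬ x.1 ^ x.2 ∣ B := by
  induction l with
  | nil => exact Or.inl h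
  | cons x l ih =>
    have h1 : s ∣ cond (Nat.beq (B % x.1 ^ x.2) 0) (QQ l B a) (x.1 * QQ l B a) := h
    have h2 : s ∣ QQ l B a → s ∣ a ∨ ∃ y ∈ x :: l, s ∣ y.1 ∧ ¬ y.1 ^ y.2 ∣ B := fun h2 =>
      (ih h2).imp_right fun ⟨y, h3, h4⟩ => ⟨y, List.mem_cons_of_mem _ h3, h4⟩
    cases h3 : Nat.beq (B % x.1 ^ x.2) 0
    · rw [h3, cond_false] at h1
      refine ((Nat.Prime.dvd_mul hs).1 h1).elim (fun h4 => Or.inr ⟨x, List.mem_cons_self, h4, fun h5 => ?_⟩) h2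
      rw [Nat.mod_eq_zero_of_dvd h5] at h3
      exact absurd h3 (by decide)
    · rw [h3, cond_true] at h1
      exact h2 h1

theorem QQ_pos {l : List (ℕ × ℕ)} (hl : ∀ x ∈ l, 0 < x.1) (B : ℕ) {a : ℕ} (ha : 0 < a) : 0 < QQ l B a := by
  induction l with
  | nil => exact ha
  | cons x l ih =>
    have h1 := ih fun y hy => hl y (List.mem_cons_of_mem _ hy)
    show 0 < cond (Nat.beq (B % x.1 ^ x.2) 0) (QQ l B a) (x.1 * QQ l B a)
    cases Nat.beq (B % x.1 ^ x.2) 0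
    · exact Nat.mul_pos (hl x List.mem_cons_self) h1
    · exact h1

theorem best_spec {Q : ℕ} {F : ℕ → ℕ → Bool} {L : List Ent} {g t : ℕ} (h : best Q F L g t = true) :
    F g t = true ∨ ∃ x ∈ L, F (x.t / Nat.gcd x.t Q) x.t = true := by
  induction L generalizing g t with
  | nil => exact Or.inl h
  | cons x L ih =>
    have h1 : (frc (Nat.gcd x.t Q) fun c => cond (Nat.beq c 1) (best Q F L g t) (frc (x.t / c) fun g' =>
      cond (Nat.beq t 0 || Nat.blt g' g) (best Q F L g' x.t) (best Q F L g t))) = true := h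
    have h2 : best Q F L g t = true → F g t = true ∨ ∃ y ∈ x :: L, F (y.t / Nat.gcd y.t Q) y.t = true := fun h2 =>
      (ih h2).imp_right fun ⟨y, h3, h4⟩ => ⟨y, List.mem_cons_of_mem _ h3, h4⟩
    rw [frc_eq, frc_eq] at h1
    cases h3 : Nat.beq (Nat.gcd x.t Q) 1
    · rw [h3, cond_false] at h1
      cases h4 : (Nat.beq t 0 || Nat.blt (x.t / Nat.gcd x.t Q) g)
      · rw [h4, cond_false] at h1
        exact h2 h1
      · rw [h4, cond_true] at h1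
        exact Or.inr ((ih h1).elim (fun h5 => ⟨x, List.mem_cons_self, h5⟩)
          fun ⟨y, h5, h6⟩ => ⟨y, List.mem_cons_of_mem _ h5, h6⟩)
    · rw [h3, cond_true] at h1
      exact h2 h1

theorem vm_chk : (Zs.all fun Y => (vm Y).all fun x => nv Y x.1 x.1 (x.1 * x.1 ^ (x.2 - 2))) = true := by decide +kernel

theorem vm_prime : ∀ Y ∈ Zs, ∀ x ∈ vm Y, x.1.Prime := by decide

theorem vm_dvd {Y : Art.Sh} (hY : Y ∈ Zs) {p f O : ℕ} (h : Art.Real Y p f O) (h0 : 0 < O) {x : ℕ × ℕ} (hx : x ∈ vm Y)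
    (hp : x.1 ≠ p) (h1 : x.1 ∣ O) : x.1 ^ x.2 ∣ O := by
  have hr := vm_prime Y hY x hx
  obtain ⟨j, n, h2, rfl⟩ := Nat.exists_eq_pow_mul_and_not_dvd h0.ne' x.1 hr.ne_one
  by_contra h3
  have h4 : j < x.2 := not_le.1 fun h4 => h3 ((pow_dvd_pow _ h4).mul_right n)
  obtain ⟨i, rfl⟩ : ∃ i, j = i + 1 := Nat.exists_eq_succ_of_ne_zero fun h5 => h2 (by simpa [h5] using h1)
  have h5 := nv_false (t := x.1) (k := x.1 ^ i) (ou := x.1 ^ (x.2 - 2)) hY hr
    (fun h5 => hp ((Nat.prime_dvd_prime_iff_eq hr h.hp).1 (hr.dvd_of_dvd_pow h5))) (pow_dvd_pow _ (by omega))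
    (by rw [← pow_succ']; exact h.eq) h2
  rw [List.all_eq_true.1 (List.all_eq_true.1 vm_chk Y hY) x hx] at h5
  exact absurd h5 (by decide)

theorem tab_cnt : ∀ x ∈ tab, (x.al = 7 → 351 ≤ x.t) ∧ (x.al = 8 → 316 ≤ x.t) ∧ 0 < x.t ∧ 3 ≤ x.R := by decide +kernel

theorem aa_le {L : List Ent} (hL : ∀ x ∈ L, x ∈ tab) {k : ℕ} (hk : 0 < k) (s : ℕ) : aa L k s ≤ EE L * k := by
  unfold aa
  split_ifs
  · exact le_rfl
  refine le_trans ?_ (Nat.le_mul_of_pos_right _ hk)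
  refine List.prod_le_prod' fun x hx => ?_
  obtain ⟨h1, h2, h3, -⟩ := tab_cnt x (hL x hx)
  unfold cnt
  split_ifs with h4 h5 h6
  exacts [h1 h5.1, h2 h6.1, le_rfl, h3]

theorem pow_down {e C j : ℕ} (he : 2 ≤ e) (i : ℕ) (h : 2 ^ ((j + i + 1) * e) ≤ (C * (6 * (j + i + 1))) ^ 2) :
    2 ^ ((j + 1) * e) ≤ (C * (6 * (j + 1))) ^ 2 := by
  induction i with
  | zero => exact h
  | succ i ih =>
    refine ih (Nat.le_of_mul_le_mul_right (c := 2 ^ 2) ?_ (by norm_num))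
    calc _ ≤ 2 ^ ((j + i + 1) * e) * 2 ^ e := Nat.mul_le_mul_left _ (Nat.pow_le_pow_right two_pos he)
      _ = 2 ^ ((j + (i + 1) + 1) * e) := by rw [← pow_add]; congr 1; ring
      _ ≤ _ := h
      _ ≤ (C * (6 * (j + i + 1)) * 2) ^ 2 := Nat.pow_le_pow_left (by
        rw [mul_assoc]; exact Nat.mul_le_mul_left _ (by omega)) 2
      _ = _ := mul_pow _ _ _

/-- all numerical conditions -/
structure Cond (Y : Art.Sh) (p f O : ℕ) (L : List Ent) (k d o : ℕ) : Prop where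
  mem : Y ∈ Zs
  real : Art.Real Y p f O
  opos : 0 < O
  o_dvd : o ∣ 6 * f
  tab : ∀ x ∈ L, x ∈ tab
  two : 2 ≤ L.length
  nec : Nec L O k d p o (c0 Y (p ^ f)) (bY Y (p ^ f)) (CB Y (p ^ f))

namespace Cond

variable {Y : Art.Sh} {p f O : ℕ} {L : List Ent} {k d o : ℕ} (c : Cond Y p f O L k d o)

include c

theorem a_pos : 0 < EE L * k := Nat.pos_of_dvd_of_pos c.nec.dvd c.opos

theorem k_pos : 0 < k := Nat.pos_of_mul_pos_left c.a_pos

theorem two_le : 2 ≤ p ^ f := c.real.hp.two_le.trans (Nat.le_self_pow (by have := c.real.hf; omega) p)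

theorem t_pos {x : Ent} (hx : x ∈ L) : 0 < x.t := (tab_cnt x (c.tab x hx)).2.2.1

theorem dvd_q {s : ℕ} (hs : s.Prime) : p ^ f % s = 0 ↔ s = p :=
  ⟨fun h => (Nat.prime_dvd_prime_iff_eq hs c.real.hp).1 (hs.dvd_of_dvd_pow (Nat.dvd_of_mod_eq_zero h)),
    fun h => Nat.mod_eq_zero_of_dvd (h ▸ dvd_pow_self s (by have := c.real.hf; omega))⟩

theorem low' : (p ^ f) ^ e2 Y * bY Y (p ^ f) ≤ kk Y * O := by
  have h := low c.mem c.two_le
  rw [← c.real.eq, mul_left_comm (kk Y)] at h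
  exact Nat.le_of_mul_le_mul_left h (H252.EN.real_pos c.real)

theorem deadK_false (h : deadK Y L (EE L) (p ^ f) O k = true) : False := by
  have h1 : ∀ x ∈ L, Nat.gcd x.t d ∣ Nat.gcd x.t (O / (EE L * k) - 1) := fun x _ =>
    Nat.gcd_dvd_gcd_of_dvd_right _ c.nec.d_dvd
  have h2 : ∀ x ∈ L, Nat.gcd x.t d ≤ Nat.gcd x.t (O / (EE L * k) - 1) := fun x hx =>
    Nat.le_of_dvd (Nat.gcd_pos_of_pos_left _ (c.t_pos hx)) (h1 x hx)
  rw [deadK, frc_eq, Bool.or_eq_true, anyE_iff, anyE_iff] at h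
  rcases h with ⟨x, hx, h⟩ | ⟨z, hz, h⟩
  · exact absurd ((c.nec.lm x hx).trans (h2 x hx)) (not_le.2 (Nat.blt_eq.mp h))
  obtain ⟨y, h3, h4⟩ := tr_spec hz
  rw [frc_eq, anyE_iff] at h
  obtain ⟨s, hs, h⟩ := h
  have hs' := sp_prime s hs
  have h5 := h2 _ h3.mem
  rw [Bool.and_eq_true, beq_iff_eq, frc_eq, frc_eq, ← h4] at h
  have h6 := Nat.dvd_of_mod_eq_zero h.1
  by_cases h7 : s = p
  · have h8 := h.2
    rw [beq_iff_eq.2 ((c.dvd_q hs').2 h7), cond_true, Nat.blt_eq, h7] at h8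
    exact absurd ((c.nec.un _ h3.mem (h7 ▸ h6)).trans (Nat.mul_le_mul_right _ h5)) (not_le.2 h8)
  have h8 := h.2
  rw [beq_eq_false_iff_ne.2 (mt (c.dvd_q hs').1 h7), cond_false] at h8
  simp only [Bool.or_eq_true, Bool.and_eq_true, Nat.blt_eq, bne_iff_ne, beq_iff_eq] at h8
  rcases h8 with h8 | ⟨h8, h9⟩ | ⟨h8, h9⟩
  · exact absurd (c.nec.cen _ y h3 s hs' h6 h7) (not_le.2 h8)
  · exact absurd ((c.nec.el _ y h3 s hs' h6 h7 fun h10 => h8 (Nat.mod_eq_zero_of_dvd (h10.trans c.nec.d_dvd))).trans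
      (Nat.mul_le_mul_right _ (Nat.mul_le_mul_right _ h5))) (not_le.2 h9)
  · exact absurd (c.nec.u1 _ y h3 s hs' ((Nat.dvd_of_mod_eq_zero h8).trans
      (Nat.div_dvd_div_left (Nat.gcd_dvd_left _ _) (h1 _ h3.mem))) h7) (not_le.2 h9)

theorem deadQ_false {ex : ℕ} (hx : ¬ p ∣ ex) (hu : ou L ∣ 210 ^ 40) (h : deadQ Y L (EE L) (ou L) ex (p ^ f) = true) :
    False := by
  have h1 : (p ^ f) ^ Art.NN Y * Art.num Y (p ^ f) / Art.dd Y (p ^ f) = O := by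
    rw [← c.real.eq, Nat.mul_div_cancel_left _ (H252.EN.real_pos c.real)]
  have h2 : Nat.gcd (p ^ f) ex = 1 := (c.real.hp.coprime_iff_not_dvd.2 hx).pow_left f
  rw [deadQ, frc_eq, frc_eq, h1, h2, Nat.mod_eq_zero_of_dvd (Dvd.dvd.trans (Dvd.intro _ rfl) c.nec.dvd)] at h
  have h3 := allDiv_sound [2, 3, 5, 7] (by decide) _ _ 1 h k
    (Nat.dvd_gcd c.nec.k_dvd (Nat.dvd_div_of_mul_dvd c.nec.dvd)) c.k_pos.ne' fun s hs h3 => by
      have h4 : s ∣ [2, 3, 5, 7].prod := hs.dvd_of_dvd_pow ((h3.trans c.nec.k_dvd).trans hu)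
      obtain ⟨r, h5, h6⟩ := hs.prime.dvd_prod_iff.1 h4
      rwa [(Nat.prime_dvd_prime_iff_eq hs ((by decide : ∀ r ∈ [2, 3, 5, 7], r.Prime) r h5)).1 h6]
  rw [one_mul] at h3
  exact c.deadK_false h3

theorem t_dvd {x : Ent} (hx : x ∈ L) : x.t ∣ O :=
  ((List.dvd_prod (List.mem_map_of_mem hx)).mul_right k).trans c.nec.dvd

theorem not_dvd_d {a s : ℕ} (ha : a = 1 ∨ a = p) (hs : s.Prime) {x : Ent} (hx : x ∈ L) (h1 : s ∣ x.t)
    (h2 : s ∣ QQ (vm Y) (EE L * ou L) a ^ 64) : ¬ s ∣ d := by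
  by_cases h3 : s = p
  · exact h3 ▸ c.nec.nd
  rcases QQ_spec hs (hs.dvd_of_dvd_pow h2) with h4 | ⟨y, h4, h5, h6⟩
  · rcases ha with rfl | rfl
    · exact absurd (Nat.dvd_one.1 h4) hs.ne_one
    · exact absurd ((Nat.prime_dvd_prime_iff_eq hs c.real.hp).1 h4) h3
  obtain rfl := (Nat.prime_dvd_prime_iff_eq hs (vm_prime Y c.mem y h4)).1 h5
  have h7 := vm_dvd c.mem c.real c.opos h4 h3 (h1.trans (c.t_dvd hx))
  rw [← Nat.mul_div_cancel' c.nec.dvd] at h7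
  intro h8
  refine h6 ((Nat.Coprime.dvd_of_dvd_mul_right (Nat.Coprime.pow_left _ (hs.coprime_iff_not_dvd.2 fun h9 => ?_)) h7).trans
    (Nat.mul_dvd_mul_left _ c.nec.k_dvd))
  have h10 := Nat.dvd_sub h9 (h8.trans c.nec.d_dvd)
  rw [Nat.sub_sub_self (Nat.div_pos (Nat.le_of_dvd c.opos c.nec.dvd) c.a_pos)] at h10
  exact hs.ne_one (Nat.dvd_one.1 h10)

theorem gcd_le {a : ℕ} (ha : a = 1 ∨ a = p) {x : Ent} (hx : x ∈ L) :
    Nat.gcd x.t d ≤ x.t / Nat.gcd x.t (QQ (vm Y) (EE L * ou L) a ^ 64) := by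
  have h0 := c.t_pos hx
  refine Nat.le_of_dvd (Nat.div_pos (Nat.gcd_le_left _ h0) (Nat.gcd_pos_of_pos_left _ h0))
    (Nat.Coprime.dvd_of_dvd_mul_left (m := Nat.gcd x.t (QQ (vm Y) (EE L * ou L) a ^ 64)) ?_ ?_)
  · refine Nat.coprime_of_dvd fun s hs h1 h2 => ?_
    exact c.not_dvd_d ha hs hx (h1.trans (Nat.gcd_dvd_left _ _)) (h2.trans (Nat.gcd_dvd_right _ _))
      (h1.trans (Nat.gcd_dvd_right _ _))
  · rw [Nat.mul_div_cancel' (Nat.gcd_dvd_left _ _)]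
    exact Nat.gcd_dvd_left _ _

theorem un_le (hu : 0 < ou L) {x : Ent} (hx : x ∈ L) (h : p ∣ x.t) {g : ℕ} (hg : Nat.gcd x.t d ≤ g) :
    (p ^ f) ^ e1 Y ≤ g * (EE L * ou L) :=
  ((c0_ge Y c.two_le).trans (c.nec.un x hx h)).trans (Nat.mul_le_mul hg ((aa_le c.tab c.k_pos p).trans
    (Nat.mul_le_mul_left _ (Nat.le_of_dvd hu c.nec.k_dvd))))

theorem modeA_sound (hu : 0 < ou L) {F : ℕ → Bool} {x : Ent} (hx : x ∈ L)
    (h : modeA Y F (EE L * ou L) (QQ (vm Y) (EE L * ou L) 1 ^ 64) (x.t / Nat.gcd x.t (QQ (vm Y) (EE L * ou L) 1 ^ 64))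
      x.t = true) : F (p ^ f) = true := by
  have hg := c.gcd_le (Or.inl rfl) hx
  rw [modeA, anyE_iff] at h
  obtain ⟨s, hs, h⟩ := h
  rw [frc_eq, Bool.and_eq_true, Bool.and_eq_true, Bool.and_eq_true, beq_iff_eq, beq_iff_eq] at h
  obtain ⟨h1, h2, h3, h4⟩ := h
  have h5 := Nat.dvd_of_mod_eq_zero h1
  by_cases hp : s = p
  · subst hp
    exact loopP_sound c.real.hp.pos c.real.hf (c.un_le hu hx h5 hg) h4
  obtain ⟨y, hy⟩ := exists_two c.two hx
  have h6 := (c.nec.el x y hy s (sp_prime s hs) h5 hp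
    (c.not_dvd_d (Or.inl rfl) (sp_prime s hs) hx h5 (Nat.dvd_of_mod_eq_zero h2))).trans (Nat.mul_le_mul
      (Nat.mul_le_mul hg ((aa_le c.tab c.k_pos s).trans (Nat.mul_le_mul_left _ (Nat.le_of_dvd hu c.nec.k_dvd))))
      (CB_le Y (one_le_two.trans c.two_le) s y.R))
  have h7 := c.low'.trans (Nat.mul_le_mul_left _ h6)
  rw [← mul_assoc] at h7
  have h8 := Nat.le_of_mul_le_mul_right h7 (Nat.pos_of_mul_pos_left (c.opos.trans_le h6))
  have h9 := allU_sound h3 c.two_le fun j hj => by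
    rw [Bool.eq_false_iff, Ne, Nat.blt_eq, not_lt]
    exact (Nat.pow_le_pow_left hj _).trans h8
  rwa [npp_false c.real.hp, Bool.false_or] at h9

theorem modeB_sound (hu : 0 < ou L) {F : ℕ → Bool} (h : modeB Y F (EE L * ou L) = true) : F (p ^ f) = true := by
  rw [modeB, frc_eq, frc_eq, Bool.and_eq_true, Bool.and_eq_true, Bool.and_eq_true, allL_iff] at h
  obtain ⟨h1, h2, h3, h4⟩ := h
  have ha : EE L * k ∣ EE L * ou L := Nat.mul_dvd_mul_left _ c.nec.k_dvd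
  have hB : 0 < EE L * ou L := Nat.mul_pos (Nat.pos_of_mul_pos_right c.a_pos) hu
  have ha' := Nat.le_of_dvd hB ha
  have hf := c.real.hf
  have hp := c.real.hp
  have ho := Nat.le_of_dvd (by omega) c.o_dvd
  generalize EE L * ou L = B at *
  rcases Nat.eq_or_lt_of_le hf with rfl | hf'
  · by_cases h5 : p ∣ B
    · have h6 := h2 p (List.mem_filter.1 (mem_pd h1 hp h5)).1
      rw [Nat.mod_eq_zero_of_dvd h5] at h6
      rwa [pow_one]
    have h6 := allU_sound h3 c.two_le fun j hj => by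
      rw [Bool.eq_false_iff, Ne, Bool.and_eq_true, Nat.ble_eq, Nat.blt_eq]
      rintro ⟨h6, h7⟩
      have h8 : 0 < kk Y := by cases Y <;> exact Nat.succ_pos _
      have h9 := (Nat.mul_le_mul_right _ (h6.trans (Nat.pow_le_pow_left hj _))).trans c.low'
      rw [mul_assoc] at h9
      have h10 := c.nec.lin c.o_dvd (fun h10 => h5 (h10.trans ha)) (le_trans (Nat.mul_le_mul_right _
        (Nat.mul_le_mul_left _ (Nat.pow_le_pow_left ha' 2))) (Nat.le_of_mul_le_mul_left h9 h8))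
      have h11 : O ≤ 3 * B * (B * 6) ^ 4 := h10.trans (Nat.mul_le_mul (Nat.mul_le_mul_left _ ha')
        (Nat.pow_le_pow_left (Nat.mul_le_mul ha' ho) 4))
      exact absurd ((((Nat.pow_le_pow_left hj _).trans (e3_le c.mem (one_le_two.trans c.two_le))).trans c.low').trans
        (Nat.mul_le_mul_left _ h11)) (not_le.2 h7)
    rwa [npp_false hp, Bool.false_or] at h6
  obtain ⟨i, rfl⟩ : ∃ i, f = i + 1 := ⟨f - 1, by omega⟩
  have h5 : (p ^ (i + 1)) ^ e1 Y ≤ (B * (6 * (i + 1))) ^ 2 :=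
    ((c0_ge Y c.two_le).trans c.nec.sig).trans (Nat.pow_le_pow_left (Nat.mul_le_mul ha' ho) 2)
  have h6 := allU_sound h4 (show 1 ≤ i by omega) fun j hj => by
    rw [Bool.eq_false_iff, Ne, Nat.blt_eq, not_lt]
    obtain ⟨e, rfl⟩ := Nat.exists_eq_add_of_le hj
    refine pow_down (by cases Y <;> simp [e1]) e (le_trans ?_ h5)
    rw [pow_mul]
    exact Nat.pow_le_pow_left (Nat.pow_le_pow_left hp.two_le _) _
  rw [frc_eq] at h6
  have h7 := allU_sound h6 hp.two_le fun j hj => by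
    rw [Bool.eq_false_iff, Ne, Nat.blt_eq, not_lt]
    exact (Nat.pow_le_pow_left (Nat.pow_le_pow_left hj _) _).trans h5
  rwa [frc_eq, npp_false hp, Bool.false_or] at h7

/-- **the test for one multiset is sound** -/
theorem leaf_false {on ex : ℕ} (ho : on = 0 ∨ on = p) (hx : ¬ p ∣ ex) (h : leaf Y L (EE L) (ou L) on ex = true) :
    False := by
  have ha : cond (Nat.beq on 0) 1 on = 1 ∨ cond (Nat.beq on 0) 1 on = p := by
    rcases ho with rfl | rfl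
    · exact Or.inl rfl
    · cases Nat.beq on 0
      exacts [Or.inr rfl, Or.inl rfl]
  rw [leaf, frc_eq, frc_eq, Bool.or_eq_true, Bool.and_eq_true, anyE_iff, Nat.beq_eq] at h
  rcases h with ⟨x, h1, h⟩ | ⟨h1, h⟩
  · exact absurd ((c.nec.lm x h1).trans (c.gcd_le ha h1)) (not_le.2 (Nat.blt_eq.mp h))
  have h2 := Nat.dvd_of_mod_eq_zero h1
  have h3 := Nat.pos_of_dvd_of_pos h2 (by positivity)
  refine c.deadQ_false hx h2 ?_
  cases h4 : Nat.beq on 0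
  · rw [h4] at ha
    rw [h4, cond_false, anyE_iff] at h
    obtain ⟨x, h5, h6⟩ := h
    obtain rfl : on = p := ho.resolve_left fun h7 => by
      rw [h7] at h4
      exact absurd h4 (by decide)
    rw [Bool.and_eq_true, Nat.beq_eq] at h6
    exact loopP_sound c.real.hp.pos c.real.hf (c.un_le h3 h5 (Nat.dvd_of_mod_eq_zero h6.1) (c.gcd_le ha h5)) h6.2
  · rw [h4, cond_true, cond_true] at h
    rcases best_spec h with h5 | ⟨x, h5, h6⟩
    · exact c.modeB_sound h3 h5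
    · cases h7 : Nat.beq x.t 0
      · rw [h7, cond_false] at h6
        exact c.modeA_sound h3 h5 h6
      · exact absurd (Nat.eq_of_beq_eq_true h7) (c.t_pos h5).ne'

end Cond

end Cfsg.Agent.TH.Ex.Mu
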